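import Groth.Agent.L22.Reg.Bound
import Groth.Agent.L17.ProjFormula
import Groth.Agent.L03.Euler.Push
import Groth.Agent.L16.CohClosedPush
import Groth.Agent.L16.Existence.Vanishing
import Groth.Agent.L18.RelAmpleCrit
import Groth.Agent.L29.LocFree
import Groth.Prelude.Def_Pic13

/-!
Regularity on closed subschemes of projective space.
-/

set_option autoImplicit false
set_option backward.isDefEq.respectTransparency false
set_option linter.style.haveILetI false
universe u

open CategoryTheory CategoryTheory.Limits AlgebraicGeometry TopologicalSpace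

noncomputable section

namespace Groth.L22.Reg

open Groth.L00.Tensor (tensorIso tensorComm tensorLeftF)
open Groth.L16

variable {k : Type u} [Field k] {n : ℕ} {X : Scheme.{u}} (i : X ⟶ CohB1.ProjSpace n k) [IsClosedImmersion i]

theorem nonempty_push_twist (F : X.Modules) (d : ℤ) :
    Nonempty (tw' ((Coh.push i).obj F) d ≅ (Coh.push i).obj (Pic13.twistOn k i F d)) :=
  ⟨tensorComm _ _ ≪≫ (Groth.L17.ProjFormula.projIso i (Twist.twistProjSpace n k d)
      (Groth.L16.Existence.isFinLocFree_of_isInvertible (ProjTwist.isInvertible_twistProjSpace n k d))).app F ≪≫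
    (Coh.push i).mapIso (tensorComm _ _)⟩

theorem isSeparated_proj : (CohB1.ProjSpace n k).IsSeparated := by
  haveI := isProper_over_proj (k := k) (n := n)
  exact ⟨by rw [← terminal.comp_from (CohB1.ProjSpace n k ↘ Spec (CommRingCat.of k))]; infer_instance⟩

include i in
theorem isLocallyNoetherian_closed : IsLocallyNoetherian X := LocallyOfFiniteType.isLocallyNoetherian i

theorem isCoh_twistOn {F : X.Modules} (hF : Coh.IsCoh F) (d : ℤ) : Coh.IsCoh (Pic13.twistOn k i F d) := by
  haveI := isLocallyNoetherian_closed i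
  exact Groth.L03.Euler.isCoh_tensor
    (Groth.L18.Ample.isInvertible_pullback i (ProjTwist.isInvertible_twistProjSpace n k d)) hF

theorem isCoh_push_closed {F : X.Modules} (hF : Coh.IsCoh F) : Coh.IsCoh ((Coh.push i).obj F) := by
  haveI := isLocallyNoetherian_closed i
  exact Groth.L16.CohClosedPush.isCoh_push i hF

variable [X.Over (Spec (CommRingCat.of k))]
  (hi : i ≫ CohB1.ProjSpace.toSpec n k = X ↘ Spec (CommRingCat.of k))

include hi

theorem nonempty_HH_twist {F : X.Modules} (hF : Coh.IsCoh F) (d : ℤ) (q : ℕ) :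
    Nonempty (Coh.HH X (Pic13.twistOn k i F d) q ≃ₗ[k]
      Coh.HH (CohB1.ProjSpace n k) ((Coh.push i).obj (Pic13.twistOn k i F d)) q) := by
  haveI := isSeparated_proj (k := k) (n := n)
  exact Groth.L03.Euler.exists_HH_push_linearEquiv i _ (isCoh_twistOn i hF d).1 hi q

theorem subsingleton_twist_iff {F : X.Modules} (hF : Coh.IsCoh F) (d : ℤ) (q : ℕ) :
    Subsingleton (Coh.HH X (Pic13.twistOn k i F d) q) ↔
      Subsingleton (Coh.HH (CohB1.ProjSpace n k) (tw' ((Coh.push i).obj F) d) q) := by
  obtain ⟨e⟩ := nonempty_push_twist i F d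
  obtain ⟨φ⟩ := nonempty_HH_twist i hi hF d q
  rw [subsingleton_congr_iso e]
  exact φ.toEquiv.subsingleton_congr

theorem regular_push_iff {F : X.Modules} (hF : Coh.IsCoh F) {m : ℤ} :
    Pic13.IsMRegular k i F m ↔ Regular ((Coh.push i).obj F) m :=
  forall₂_congr fun q _ => subsingleton_twist_iff i hi hF _ q

theorem h1_push {F : X.Modules} (hF : Coh.IsCoh F) (d : ℤ) :
    Module.finrank k (Coh.HH X (Pic13.twistOn k i F d) 1) = h1 ((Coh.push i).obj F) d := by
  obtain ⟨e⟩ := nonempty_push_twist i F d
  obtain ⟨φ⟩ := nonempty_HH_twist i hi hF d 1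
  rw [h1_def, φ.finrank_eq]
  exact (Groth.L21.RR.h_congr k e 1).symm

omit hi [X.Over (Spec (CommRingCat.of k))]

/-- A quotient of a pullback of a globally generated module. -/
theorem isGloballyGenerated_of_push {N : X.Modules} [Coh.IsQCoh N]
    (h : Curv2.IsGloballyGenerated ((Coh.push i).obj N)) : Curv2.IsGloballyGenerated N := by
  obtain ⟨ι, p, hp⟩ := h
  haveI := hp
  haveI := Groth.L18.Ample.counit_epi_of_isQuasiAffine i
    ⟨inferInstance, fun V hV => by haveI : IsAffine _ := hV.preimage i; infer_instance⟩ N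
  let P := Scheme.Modules.pullback i
  haveI : P.IsLeftAdjoint := (Scheme.Modules.pullbackPushforwardAdjunction i).isLeftAdjoint
  let e : freeM X ι ≅ P.obj (freeM (CohB1.ProjSpace n k) ι) :=
    Sigma.mapIso (fun _ : ι => (Groth.L29.LocFree.pullbackUnitIso i).symm) ≪≫
      (PreservesCoproduct.iso P fun _ : ι => Coh.structureModule (CohB1.ProjSpace n k)).symm
  let q : freeM X ι ⟶ N := e.hom ≫ P.map p ≫ (Scheme.Modules.pullbackPushforwardAdjunction i).counit.app N
  haveI : Epi (P.map p) := inferInstance
  haveI : Epi q := inferInstanceAs (Epi (e.hom ≫ P.map p ≫ _))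
  exact ⟨ι, q, inferInstance⟩

theorem shortExact_push {S : ShortComplex X.Modules} (hS : S.ShortExact) : (S.map (Coh.push i)).ShortExact := by
  haveI : PreservesColimitsOfSize.{u, u} (Coh.push i) := Groth.L17.ClosedPush.preservesColimits_push i
  haveI : (Coh.push i).IsRightAdjoint := (Scheme.Modules.pullbackPushforwardAdjunction i).isRightAdjoint
  haveI : PreservesFiniteColimits (Coh.push i) := PreservesColimitsOfSize.preservesFiniteColimits _
  haveI : PreservesFiniteLimits (Coh.push i) := inferInstance
  exact hS.map_of_exact (Coh.push i)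

end Groth.L22.Reg
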