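import Groth.Agent.L22.Reg.Bound
import Groth.Agent.L22.EnrSev.Mult
import Groth.Agent.L22.EnrSev.H0
import Groth.Agent.L03.PlanePoints
import Mathlib.Algebra.Module.Submodule.Union

/-!
Linear forms in general position on projective space over an infinite field.
-/

set_option autoImplicit false
set_option backward.isDefEq.respectTransparency false
set_option linter.style.haveILetI false
universe u

open CategoryTheory CategoryTheory.Limits AlgebraicGeometry TopologicalSpace Opposite

noncomputable section

namespace Groth.L22.Reg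

open Groth.L00.Tensor (tensorMap tensorUnitLeft)
open Groth.L16

variable {n : ℕ}

/-- The degree one forms. -/
abbrev Form (n : ℕ) (k : Type u) [CommRing k] : Type u := ↥(CohB1.polyGrading n k 1)

section Sigma

variable {R : Type u} [CommRing R]

/-- `O(-1) ⟶ O` given by a linear form. -/
def sigmaF (f : Form n R) : O' n R (-1) ⟶ Coh.structureModule (CohB1.ProjSpace n R) :=
  (tensorUnitLeft (O' n R (-1))).inv ≫
    tensorMap (ProjTwist.sect (CohB1.polyGrading n R) f) (𝟙 (O' n R (-1))) ≫
    ((nonempty_O_add (n := n) (R := R) (show ((1 : ℕ) : ℤ) + -1 = 0 by norm_num)).some ≪≫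
      (nonempty_O_zero n R).some).hom

theorem bijective_sigmaF (f : Form n R) {x : CohB1.ProjSpace n R}
    (hx : x ∈ Proj.basicOpen (CohB1.polyGrading n R) f.1) : Function.Bijective (sm x (sigmaF f)) := by
  have hs := bijective_sm_of_mem_genLocus (ProjTwist.sect (CohB1.polyGrading n R) f) (x := x)
    (by rw [ProjTwist.genLocus_sect _ (hcov n R)]; exact hx)
  obtain ⟨θ, hθ, -, hnat⟩ := exists_theta x (ProjTwist.isInvertible_twistProjSpace n R (-1))
  have hT : Function.Bijective (sm x (tensorMap
      (ProjTwist.sect (CohB1.polyGrading n R) f) (𝟙 (O' n R (-1))))) := by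
    refine (Function.Bijective.of_comp_iff _ (hθ _)).1 ?_
    have h := funext (hnat _ _ (ProjTwist.sect (CohB1.polyGrading n R) f))
    exact (congrArg Function.Bijective (a₁ := _ ∘ _) h).mpr ((hθ _).comp hs)
  have hiso : ∀ {A B : (CohB1.ProjSpace n R).Modules} (f : A ⟶ B) [IsIso f], Function.Bijective (sm x f) :=
    fun f _ => (ConcreteCategory.isIso_iff_bijective _).1 inferInstance
  have h' := ((hiso ((nonempty_O_add (n := n) (R := R) (show ((1 : ℕ) : ℤ) + -1 = 0 by norm_num)).some ≪≫
      (nonempty_O_zero n R).some).hom).comp hT).comp (hiso (tensorUnitLeft (O' n R (-1))).inv)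
  have e : ∀ v, sm x (sigmaF f) v = _ := fun v => by rw [sigmaF, sm_comp, sm_comp]
  exact (congrArg Function.Bijective (funext e)).mpr h'

end Sigma

variable {k : Type u} [Field k]

/-- The forms vanishing at a point. -/
def vanAt (x : CohB1.ProjSpace n k) : Submodule k (Form n k) :=
  (x.asHomogeneousIdeal.toIdeal.restrictScalars k).comap (CohB1.polyGrading n k 1).subtype

theorem mem_vanAt {x : CohB1.ProjSpace n k} {f : Form n k} :
    f ∈ vanAt x ↔ x ∉ Proj.basicOpen (CohB1.polyGrading n k) f.1 := by
  rw [Proj.mem_basicOpen, not_not]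
  rfl

theorem vanAt_ne_top (x : CohB1.ProjSpace n k) : vanAt x ≠ ⊤ := fun h => by
  obtain ⟨i, hi⟩ := ProjSpace.exists_mem_basicOpen_X n k x
  exact mem_vanAt.1 (h.ge (Submodule.mem_top (x := ⟨_, ProjSpace.X_mem n k i⟩))) hi

theorem exists_form_avoiding [Infinite k] {S : Set (CohB1.ProjSpace n k)} (hS : S.Finite) :
    ∃ f : Form n k, ∀ x ∈ S, x ∈ Proj.basicOpen (CohB1.polyGrading n k) f.1 := by
  haveI : Finite S := hS.to_subtype
  obtain ⟨f, hf⟩ := Submodule.exists_forall_notMem_of_forall_ne_top (fun x : S => vanAt x.1) fun x => vanAt_ne_top _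
  exact ⟨f, fun x hx => not_not.1 fun h => hf ⟨x, hx⟩ (mem_vanAt.2 h)⟩

theorem finite_forms : Module.Finite k (Form n k) := (Groth.L03.PlanePoints.finrank_homogeneous n 1).1

theorem finrank_forms : Module.finrank k (Form n k) = n + 1 := by
  refine (Groth.L03.PlanePoints.finrank_homogeneous (F := k) n 1).2.trans ?_
  rw [add_comm, Nat.choose_succ_self_right]

/-- Multiplication by a form in general position is injective. -/
theorem mono_mu_sigmaF {F : (CohB1.ProjSpace n k).Modules} (hF : Coh.IsCoh F) (f : Form n k)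
    (h : ∀ x, Curv2.IsAssPoint F x → x ∈ Proj.basicOpen (CohB1.polyGrading n k) f.1) :
    Mono (mu (sigmaF f) F) := by
  have hQ := ProjTwist.isInvertible_twistProjSpace n k (-1)
  have hc : Coh.IsCoh (tw' F (-1)) := Groth.L03.Euler.isCoh_tensor hQ hF
  haveI := hc.1
  haveI := hF.1
  refine Groth.L22.EnrSev.mono_of_injective_ass (A := tw' F (-1)) (mu (sigmaF f) F) fun x hx => ?_
  exact (bijective_mu x (sigmaF f) (bijective_sigmaF f (h x ((isAssPoint_tw F x).1 hx))) F).1
where
  isAssPoint_tw (F : (CohB1.ProjSpace n k).Modules) (x : CohB1.ProjSpace n k) :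
      Curv2.IsAssPoint (tw' F (-1)) x ↔ Curv2.IsAssPoint F x :=
    Groth.L22.EnrSev.isAssPoint_tensor_iff (ProjTwist.isInvertible_twistProjSpace n k (-1)) F x

end Groth.L22.Reg
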