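import Groth.Agent.L22.Reg.Mumford
import Groth.Agent.L16.ProjSpace.BaseChange
import Groth.Agent.L16.ProjSpace.PosFrames
import Groth.Agent.L17.FlatBase.CxTools
import Groth.Agent.L16.AffineBC.Pullback
import Groth.Agent.L21.RR.BaseChange
import Mathlib.FieldTheory.IsAlgClosed.AlgebraicClosure

/-!
Extending the ground field; the bound for submodules of free modules.
-/

set_option autoImplicit false
set_option backward.isDefEq.respectTransparency false
set_option linter.style.haveILetI false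
universe u

open CategoryTheory CategoryTheory.Limits AlgebraicGeometry TopologicalSpace Opposite

noncomputable section

namespace Groth.L22.Reg

open Groth.L00.Tensor (tensorMap tensorRightF tensorIso tensorAssoc tensorUnitRight tensorUnitLeft)
open Groth.L16
open Groth.L16.CohLinear (hmap hmap_comp hmap_id overLin)

variable {n : ℕ}

theorem nonempty_pullback_O {R R' : Type u} [CommRing R] [CommRing R'] (φ : R →+* R') (d : ℤ) :
    Nonempty ((Scheme.Modules.pullback (ProjSpace.map n φ)).obj (O' n R d) ≅ O' n R' d) := by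
  let g := ProjSpace.map n φ
  obtain ⟨p⟩ := ProjSpace.nonempty_pullback_twist_iso n φ ((-d).toNat)
  obtain ⟨q⟩ := ProjSpace.nonempty_pullback_twist_iso n φ (d.toNat)
  obtain ⟨a⟩ := nonempty_O_add (n := n) (R := R) (show d + ((-d).toNat : ℤ) = (d.toNat : ℤ) by omega)
  obtain ⟨b⟩ := nonempty_O_add (n := n) (R := R') (show ((-d).toNat : ℤ) + -((-d).toNat : ℤ) = 0 by omega)
  obtain ⟨c⟩ := nonempty_O_add (n := n) (R := R') (show (d.toNat : ℤ) + -((-d).toNat : ℤ) = d by omega)
  obtain ⟨z⟩ := nonempty_O_zero n R'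
  let P := Scheme.Modules.pullback g
  exact ⟨(tensorUnitRight _).symm ≪≫ tensorIso (Iso.refl _) (b ≪≫ z).symm ≪≫ (tensorAssoc _ _ _).symm ≪≫
    tensorIso (tensorIso (Iso.refl _) p.symm ≪≫ Groth.L29.DC.PullTensor.pullTensor g _ _ ≪≫ P.mapIso a ≪≫ q)
      (Iso.refl _) ≪≫ c⟩

variable {k : Type u} [Field k] {K : Type u} [Field K] [Algebra k K]

/-- `ℙⁿ_K ⟶ ℙⁿ_k`. -/
abbrev gK (n : ℕ) (k K : Type u) [Field k] [Field K] [Algebra k K] : CohB1.ProjSpace n K ⟶ CohB1.ProjSpace n k :=
  ProjSpace.map n (algebraMap k K)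

theorem isPullback_gK : IsPullback (gK n k K) (CohB1.ProjSpace n K ↘ Spec (CommRingCat.of K))
    (CohB1.ProjSpace n k ↘ Spec (CommRingCat.of k)) (Spec.map (CommRingCat.ofHom (algebraMap k K))) :=
  ProjSpace.isPullback_map n (algebraMap k K)

theorem flat_gK : Flat (gK n k K) := by
  haveI : Flat (Spec.map (CommRingCat.ofHom (algebraMap k K))) := by
    rw [HasRingHomProperty.Spec_iff (P := @Flat)]
    exact RingHom.flat_algebraMap_iff.2 inferInstance
  exact MorphismProperty.of_isPullback (P := @Flat) (ProjSpace.isPullback_map n (algebraMap k K)).flip inferInstance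

theorem nonempty_pullback_tw (F : (CohB1.ProjSpace n k).Modules) (t : ℤ) :
    Nonempty ((Scheme.Modules.pullback (gK n k K)).obj (tw' F t) ≅
      tw' ((Scheme.Modules.pullback (gK n k K)).obj F) t) := by
  obtain ⟨e⟩ := nonempty_pullback_O (n := n) (algebraMap k K) t
  exact ⟨(Groth.L29.DC.PullTensor.pullTensor (gK n k K) F _).symm ≪≫ tensorIso (Iso.refl _) e⟩

theorem chiP_pullback {F : (CohB1.ProjSpace n k).Modules} (hF : Coh.IsCoh F) (t : ℤ) :
    chiP ((Scheme.Modules.pullback (gK n k K)).obj F) t = chiP F t := by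
  haveI := isProper_over_proj (k := k) (n := n)
  haveI := isProper_over_proj (k := K) (n := n)
  obtain ⟨e⟩ := nonempty_pullback_tw (K := K) F t
  rw [chiP_eq, chiP_eq]
  exact (Groth.L03.Euler.euler_iso e).symm.trans (Groth.L21.RR.euler_pullback (gK n k K) isPullback_gK (isCoh_tw hF t))

theorem regular_pullback_iff {F : (CohB1.ProjSpace n k).Modules} (hF : Coh.IsCoh F) {m : ℤ} :
    Regular ((Scheme.Modules.pullback (gK n k K)).obj F) m ↔ Regular F m := by
  haveI := isProper_over_proj (k := k) (n := n)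
  haveI := isProper_over_proj (k := K) (n := n)
  refine forall₂_congr fun q _ => ?_
  obtain ⟨e⟩ := nonempty_pullback_tw (K := K) F (m - q)
  have h := Groth.L21.RR.h_pullback (gK n k K) isPullback_gK (isCoh_tw hF (m - q)) q
  haveI := Groth.L16.ProperFinite.finite_HH k (isCoh_tw hF (m - q)) q
  haveI := Groth.L16.ProperFinite.finite_HH K
    (Groth.L16.AffineBC.isCoh_pullback (gK n k K) (isCoh_tw hF (m - q))) q
  rw [subsingleton_congr_iso e.symm]
  exact ⟨fun hs => Module.finrank_zero_iff.1 (h.symm.trans (Module.finrank_zero_iff.2 hs)),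
    fun hs => Module.finrank_zero_iff.1 (h.trans (Module.finrank_zero_iff.2 hs))⟩

variable (n k) in
/-- `O^p`. -/
abbrev freeO (p : ℕ) : (CohB1.ProjSpace n k).Modules := ∐ fun _ : Fin p => O' n k 0

theorem h0t_free_le (p : ℕ) (t : ℕ) :
    (h0t (freeO n k p) (t : ℤ) : ℤ) ≤ (p : ℤ) * ((t : ℤ) + n + 1) ^ n := by
  classical
  haveI := isProper_over_proj (k := k) (n := n)
  obtain ⟨e⟩ := nonempty_tensor_sigma (n := n) (fun _ : Fin p => O' n k 0) (O' n k (t : ℤ))
  obtain ⟨a⟩ := nonempty_O_add (n := n) (R := k) (show (0 : ℤ) + (t : ℤ) = (t : ℤ) by omega)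
  let e' : (tensorRightF (O' n k (t : ℤ))).obj (freeO n k p) ≅ ∐ fun _ : Fin p => O' n k (t : ℤ) :=
    e ≪≫ Sigma.mapIso fun _ => a
  have h1 : Module.finrank k (Coh.HH (CohB1.ProjSpace n k) (∐ fun _ : Fin p => O' n k (t : ℤ)) 0) ≤
      p * Nat.choose (t + n) n := by
    haveI : ∀ _ : Fin p, Module.Finite k (Coh.HH (CohB1.ProjSpace n k) (O' n k (t : ℤ)) 0) := fun _ =>
      Groth.L16.ProperFinite.finite_HH k
        (Groth.L16.ProperFinite.isCoh_of_isInvertible (ProjTwist.isInvertible_twistProjSpace n k (t : ℤ))) 0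
    refine (finrank_sigma_le (fun _ : Fin p => O' n k (t : ℤ)) 0).trans ?_
    obtain ⟨φ⟩ := ProjSpace.nonempty_H0_twist_linearEquiv n k t
    have h3 := φ.finrank_eq
    rw [(Groth.L03.PlanePoints.finrank_homogeneous n t).2] at h3
    rw [Finset.sum_const, Finset.card_univ, Fintype.card_fin, smul_eq_mul, h3]
  have h2 : Nat.choose (t + n) n ≤ (t + n + 1) ^ n :=
    (Nat.choose_le_pow _ _).trans (Nat.pow_le_pow_left (Nat.le_succ _) n)
  rw [h0t_def, Groth.L03.Euler.finrank_HH_of_iso e']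
  calc ((Module.finrank k (Coh.HH (CohB1.ProjSpace n k) (∐ fun _ : Fin p => O' n k (t : ℤ)) 0) : ℕ) : ℤ)
      ≤ ((p * Nat.choose (t + n) n : ℕ) : ℤ) := Nat.cast_le.2 h1
    _ ≤ ((p * (t + n + 1) ^ n : ℕ) : ℤ) := Nat.cast_le.2 (Nat.mul_le_mul_left _ h2)
    _ = (p : ℤ) * ((t : ℤ) + n + 1) ^ n := by push_cast; ring
where
  finrank_sigma_le {p : ℕ} (M : Fin p → (CohB1.ProjSpace n k).Modules) (q : ℕ)
      [∀ j, Module.Finite k (Coh.HH (CohB1.ProjSpace n k) (M j) q)] :
      Module.finrank k (Coh.HH (CohB1.ProjSpace n k) (∐ M) q) ≤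
        ∑ j, Module.finrank k (Coh.HH (CohB1.ProjSpace n k) (M j) q) := by
    classical
    let f : (∀ j, Coh.HH (CohB1.ProjSpace n k) (M j) q) →ₗ[k] Coh.HH (CohB1.ProjSpace n k) (∐ M) q :=
      ∑ j, (overLin k (hmap (Sigma.ι M j) q)).comp (LinearMap.proj j)
    refine (LinearMap.finrank_le_finrank_of_surjective (f := f) fun x => ?_).trans (Module.finrank_pi_fintype k).le
    let pr : ∀ j, ∐ M ⟶ M j := fun j => Sigma.desc fun i =>
      if h : i = j then eqToHom (congrArg M h) else 0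
    have hid : 𝟙 (∐ M) = ∑ j, pr j ≫ Sigma.ι M j := by
      refine Sigma.hom_ext _ _ fun i => ?_
      rw [Category.comp_id, Preadditive.comp_sum, Finset.sum_eq_single i]
      · simp [pr]
      · intro j _ hj
        simp [pr, Ne.symm hj]
      · simp
    refine ⟨fun j => hmap (pr j) q x, ?_⟩
    have h2 : hmap (𝟙 (∐ M)) q x = ∑ j, hmap (pr j ≫ Sigma.ι M j) q x := by
      rw [hid]
      change Sheaf.H.map (CohLinear.tm (∑ j, pr j ≫ Sigma.ι M j)) q x = _
      rw [CohLinear.tm, Functor.map_sum, CohLinear.hMap_sum]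
      rfl
    rw [hmap_id] at h2
    refine Eq.trans ?_ h2.symm
    simp only [f, LinearMap.sum_apply, LinearMap.comp_apply, LinearMap.proj_apply, hmap_comp]
    rfl

theorem amb_free (p : ℕ) :
    Amb (n + 1) (fun t => (p : ℤ) * (t + n + 1) ^ n) (freeO n k p) :=
  ⟨ProjSpace.isCoh_sigma_twist n k fun _ => (0 : ℤ), regular_sigma_twist p le_rfl, h0t_free_le p,
    ⟨⊥, by simp, fun f hf x _ hx => by
      rw [(Submodule.mem_bot k).1 hf] at hx
      exact ((Proj.mem_basicOpen _ _ _).1 hx) (x.asHomogeneousIdeal.toIdeal.zero_mem)⟩⟩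

/-- The bound holds over any field. -/
theorem Good.regular {d p : ℕ} {f : ℤ → ℤ} {M : ℤ} (hd : n + 1 = d)
    (hM : Good.{u} d (fun t => (p : ℤ) * (t + n + 1) ^ n) f M) {F : (CohB1.ProjSpace n k).Modules}
    (hF : Coh.IsCoh F) (i : F ⟶ freeO n k p) [Mono i] (hf : ∀ r, chiP F r = f r) : Regular F M := by
  subst hd
  let K := AlgebraicClosure k
  haveI : Infinite K := IsAlgClosed.instInfinite
  haveI := flat_gK (n := n) (k := k) (K := K)
  haveI := Groth.L17.CxTools.preservesFiniteLimits_pullback (gK n k K)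
  let P := Scheme.Modules.pullback (gK n k K)
  haveI : P.IsLeftAdjoint := (Scheme.Modules.pullbackPushforwardAdjunction _).isLeftAdjoint
  haveI : Mono (P.map i) := inferInstance
  let e : P.obj (freeO n k p) ≅ freeO n K p :=
    PreservesCoproduct.iso P _ ≪≫ Sigma.mapIso fun _ => (nonempty_pullback_O (n := n) (algebraMap k K) 0).some
  exact (regular_pullback_iff (K := K) hF).1 (hM K n (freeO n K p) (P.obj F) (P.map i ≫ e.hom)
    (Groth.L16.AffineBC.isCoh_pullback _ hF) (amb_free p) fun r => (chiP_pullback hF r).trans (hf r))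

end Groth.L22.Reg
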