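import Groth.Agent.L22.Reg.Pn
import Groth.Agent.L18.GlobGen

/-!
Regular modules: global generation and multiplication by higher degree forms.
-/

set_option autoImplicit false
set_option backward.isDefEq.respectTransparency false
set_option linter.style.haveILetI false
universe u

open CategoryTheory CategoryTheory.Limits AlgebraicGeometry TopologicalSpace Opposite

noncomputable section

namespace Groth.L22.Reg

open Groth.L00.Tensor (tensorMap tensorMap_comp tensorIso tensorAssoc tensorUnitLeft tensorUnitRight)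
open Groth.L18.GenLoc (tens)
open Groth.L16

section General

variable {X : Scheme.{u}}

theorem app_map_one {A B : X.Modules} (φ : Coh.structureModule X ⟶ A) (f : A ⟶ B) :
    (φ ≫ f).app ⊤ (Groth.L21.RR.oneSec X) = f.app ⊤ (φ.app ⊤ (Groth.L21.RR.oneSec X)) := rfl

/-- Images of sections of `O ⊗ C` are products. -/
theorem tensorMap_mem_prodRange {G C : X.Modules} (φ : Coh.structureModule X ⟶ G)
    (w : Γ(CohB1.tensorMod (Coh.structureModule X) C, ⊤)) :
    (tensorMap φ (𝟙 C)).app ⊤ w ∈ prodRange G C := by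
  let t := (tensorUnitLeft C).hom.app ⊤ w
  have hw : w = tens (Coh.structureModule X) C ⊤ (Groth.L21.RR.oneSec X) t := by
    refine ((ConcreteCategory.isIso_iff_bijective _).1
      (Scheme.Modules.Hom.isIso_iff_isIso_app.1 (inferInstance : IsIso (tensorUnitLeft C).hom) ⊤)).1 ?_
    rw [tensorUnitLeft_tens]
    exact (one_smul _ t).symm
  rw [hw, Groth.L18.Ample.tensorMap_tens]
  exact tens_mem_prodRange G C _ _

/-- Surjective multiplications compose. -/
theorem surjective_trans {G A B C : X.Modules} (e : CohB1.tensorMod A B ≅ C)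
    (h₁ : Function.Surjective ((toSheafify (Opens.grothendieckTopology X) (CohB1.tensorPre G A).presheaf).app (op ⊤)))
    (h₂ : Function.Surjective ((toSheafify (Opens.grothendieckTopology X)
      (CohB1.tensorPre (CohB1.tensorMod G A) B).presheaf).app (op ⊤))) :
    Function.Surjective ((toSheafify (Opens.grothendieckTopology X) (CohB1.tensorPre G C).presheaf).app (op ⊤)) := by
  let Ξ : ∀ K : X.Modules, CohB1.tensorMod (CohB1.tensorMod K A) B ≅ CohB1.tensorMod K C := fun K =>
    tensorAssoc K A B ≪≫ tensorIso (Iso.refl K) e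
  have hΞ : ∀ {K K' : X.Modules} (φ : K ⟶ K'),
      tensorMap (tensorMap φ (𝟙 A)) (𝟙 B) ≫ (Ξ K').hom = (Ξ K).hom ≫ tensorMap φ (𝟙 C) := by
    intro K K' φ
    show _ ≫ (tensorAssoc K' A B).hom ≫ tensorMap (𝟙 K') e.hom =
      ((tensorAssoc K A B).hom ≫ tensorMap (𝟙 K) e.hom) ≫ tensorMap φ (𝟙 C)
    rw [reassoc_of% Groth.L29.DC.Assoc.assoc_natural φ (𝟙 A) (𝟙 B), Groth.L00.Tensor.tensorMap_id,
      Category.assoc, ← tensorMap_comp, ← tensorMap_comp, Category.id_comp, Category.comp_id,
      Category.id_comp, Category.comp_id]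
  intro y
  show y ∈ prodRange G C
  obtain ⟨z, rfl⟩ := ((ConcreteCategory.isIso_iff_bijective _).1
    (Scheme.Modules.Hom.isIso_iff_isIso_app.1 (inferInstance : IsIso (Ξ G).hom) ⊤)).2 y
  obtain ⟨p, rfl⟩ := h₂ z
  induction p using TensorProduct.induction_on with
  | zero =>
    refine (congrArg (· ∈ prodRange G C) ?_).mpr (prodRange G C).zero_mem
    exact (congrArg _ (map_zero _)).trans (map_zero _)
  | add a b ha hb =>
    refine (congrArg (· ∈ prodRange G C) ?_).mpr ((prodRange G C).add_mem ha hb)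
    exact (congrArg _ (map_add _ a b)).trans (map_add _ _ _)
  | tmul gs t =>
    change ((Ξ G).hom).app ⊤ (tens (CohB1.tensorMod G A) B ⊤ gs t) ∈ prodRange G C
    obtain ⟨q, rfl⟩ := h₁ gs
    induction q using TensorProduct.induction_on with
    | zero =>
      refine (congrArg (· ∈ prodRange G C) ?_).mpr (prodRange G C).zero_mem
      exact (congrArg _ ((congrArg (fun v => tens (CohB1.tensorMod G A) B ⊤ v t) (map_zero _)).trans
        (Groth.L18.Ample.tens_zero_left t))).trans (map_zero _)
    | add a b ha hb =>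
      refine (congrArg (· ∈ prodRange G C) ?_).mpr ((prodRange G C).add_mem ha hb)
      exact (congrArg _ ((congrArg (fun v => tens (CohB1.tensorMod G A) B ⊤ v t) (map_add _ a b)).trans
        (Groth.L18.Ample.tens_add_left _ _ t))).trans (map_add _ _ _)
    | tmul g s =>
      change ((Ξ G).hom).app ⊤ (tens (CohB1.tensorMod G A) B ⊤ (tens G A ⊤ g s) t) ∈ prodRange G C
      have hg : tens (CohB1.tensorMod G A) B ⊤ (tens G A ⊤ g s) t =
          (tensorMap (tensorMap (homOfSection G g) (𝟙 A)) (𝟙 B)).app ⊤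
            (tens _ B ⊤ (tens (Coh.structureModule X) A ⊤ (Groth.L21.RR.oneSec X) s) t) := by
        rw [Groth.L18.Ample.tensorMap_tens, Groth.L18.Ample.tensorMap_tens,
          Groth.L21.RR.app_homOfSection_one]
        rfl
      rw [hg]
      refine (congrArg (· ∈ prodRange G C)
        (congrArg (fun f => f.app ⊤ (tens _ B ⊤ (tens (Coh.structureModule X) A ⊤ (Groth.L21.RR.oneSec X) s) t))
          (hΞ (homOfSection G g)))).mpr ?_
      exact tensorMap_mem_prodRange _ _

theorem surjective_trivial {G C : X.Modules} (e : C ≅ Coh.structureModule X) :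
    Function.Surjective ((toSheafify (Opens.grothendieckTopology X) (CohB1.tensorPre G C).presheaf).app (op ⊤)) := by
  intro y
  show y ∈ prodRange G C
  let Ξ := tensorIso (Iso.refl G) e ≪≫ tensorUnitRight G
  let g := Ξ.hom.app ⊤ y
  let s := e.inv.app ⊤ (Groth.L21.RR.oneSec X)
  have h : Ξ.hom.app ⊤ (tens G C ⊤ g s) = g := by
    show (tensorUnitRight G).hom.app ⊤ ((tensorMap (𝟙 G) e.hom).app ⊤ (tens G C ⊤ g s)) = g
    rw [Groth.L18.Ample.tensorMap_tens]
    refine (Groth.L20.ResDescent.tensorUnitRight_app G ⊤ _ _).trans ?_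
    have h1 : e.hom.app ⊤ s = Groth.L21.RR.oneSec X :=
      congrArg (fun f => f.app ⊤ (Groth.L21.RR.oneSec X)) e.inv_hom_id
    exact (congrArg (fun r : Γ(X, ⊤) => r • g) h1).trans (one_smul _ g)
  rw [← ((ConcreteCategory.isIso_iff_bijective _).1
    (Scheme.Modules.Hom.isIso_iff_isIso_app.1 (inferInstance : IsIso Ξ.hom) ⊤)).1 h]
  exact tens_mem_prodRange G C _ _

theorem surjective_congr {G G' C : X.Modules} (e : G ≅ G')
    (h : Function.Surjective ((toSheafify (Opens.grothendieckTopology X) (CohB1.tensorPre G C).presheaf).app (op ⊤))) :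
    Function.Surjective ((toSheafify (Opens.grothendieckTopology X) (CohB1.tensorPre G' C).presheaf).app (op ⊤)) := by
  intro y
  show y ∈ prodRange G' C
  obtain ⟨z, rfl⟩ := ((ConcreteCategory.isIso_iff_bijective _).1 (Scheme.Modules.Hom.isIso_iff_isIso_app.1
    (inferInstance : IsIso (tensorIso e (Iso.refl C)).hom) ⊤)).2 y
  obtain ⟨p, rfl⟩ := h z
  induction p using TensorProduct.induction_on with
  | zero =>
    refine (congrArg (· ∈ prodRange G' C) ?_).mpr (prodRange G' C).zero_mem
    exact (congrArg _ (map_zero _)).trans (map_zero _)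
  | add a b ha hb =>
    refine (congrArg (· ∈ prodRange G' C) ?_).mpr ((prodRange G' C).add_mem ha hb)
    exact (congrArg _ (map_add _ a b)).trans (map_add _ _ _)
  | tmul g t =>
    change (tensorMap e.hom (𝟙 C)).app ⊤ (tens G C ⊤ g t) ∈ prodRange G' C
    rw [Groth.L18.Ample.tensorMap_tens]
    exact tens_mem_prodRange G' C _ _

end General

variable {n : ℕ} {R : Type u} [CommRing R]

theorem Regular.surjective {F : (CohB1.ProjSpace n R).Modules} {m d : ℤ} (h : Regular F m) (hd : m ≤ d) :
    ∀ e : ℕ, Function.Surjective ((toSheafify (Opens.grothendieckTopology (CohB1.ProjSpace n R))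
      (CohB1.tensorPre (tw' F d) (O' n R (e : ℤ))).presheaf).app (op ⊤))
  | 0 => surjective_trivial (nonempty_O_zero n R).some
  | e + 1 =>
    surjective_trans (nonempty_O_add (n := n) (R := R) (show (e : ℤ) + 1 = ((e + 1 : ℕ) : ℤ) by omega)).some
      (h.surjective hd e)
      (surjective_congr (nonempty_tw_tw F (show d + (e : ℤ) = d + e from rfl)).some.symm
        (h.surjective_one (show m ≤ d + (e : ℤ) by omega)))

theorem exists_gg_twist {F : (CohB1.ProjSpace n R).Modules} [IsNoetherianRing R] (hF : Coh.IsCoh F) (b : ℤ) :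
    ∃ t₀ : ℕ, ∀ t, t₀ ≤ t → Curv2.IsGloballyGenerated (tw' F (b + (t : ℤ))) := by
  have hA : CohB1.IsAmple (O' n R ((1 : ℕ) : ℤ)) :=
    ProjTwist.isAmple_twist (CohB1.polyGrading n R) one_pos
      (fun i : Fin (n + 1) => (⟨MvPolynomial.X i, ProjSpace.X_mem n R i⟩ : CohB1.polyGrading n R 1))
      (ProjSpace.iSup_basicOpen_X_eq_top n R)
  have hcoh : Coh.IsCoh (tw' F b) :=
    Groth.L03.Euler.isCoh_tensor (ProjTwist.isInvertible_twistProjSpace n R b) hF
  obtain ⟨t₀, ht₀⟩ := Groth.L18.Ample.exists_forall_isGloballyGenerated hA _ hcoh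
  refine ⟨t₀, fun t ht => ?_⟩
  obtain ⟨e⟩ := ProjTwist.nonempty_twist_iso_tensorPow (CohB1.polyGrading n R) (hcov n R) t
  obtain ⟨e'⟩ := nonempty_tw_tw F (show b + (t : ℤ) = b + t from rfl)
  exact Groth.L18.Ample.isGloballyGenerated_of_iso (tensorIso (Iso.refl _) e.symm ≪≫ e') (ht₀ t ht)

theorem Regular.isGloballyGenerated [IsNoetherianRing R] {F : (CohB1.ProjSpace n R).Modules} (hF : Coh.IsCoh F)
    {m d : ℤ} (h : Regular F m) (hd : m ≤ d) : Curv2.IsGloballyGenerated (tw' F d) := by
  obtain ⟨t₀, ht⟩ := exists_gg_twist hF d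
  suffices hs : ∀ (s : ℕ) (d : ℤ), m ≤ d → Curv2.IsGloballyGenerated (tw' F (d + (s : ℤ))) →
      Curv2.IsGloballyGenerated (tw' F d) from hs t₀ d hd (ht t₀ le_rfl)
  intro s
  induction s with
  | zero => intro d _ hg; simpa using hg
  | succ s ih =>
    intro d hd hg
    have h1 : Curv2.IsGloballyGenerated (tw' F (d + 1)) :=
      ih (d + 1) (by omega) (by rwa [show d + 1 + (s : ℤ) = d + ((s + 1 : ℕ) : ℤ) by omega])
    obtain ⟨e⟩ := nonempty_tw_tw F (show d + 1 = d + 1 from rfl)
    exact isGloballyGenerated_of_mult (ProjTwist.isInvertible_twistProjSpace n R 1)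
      (Groth.L18.Ample.isGloballyGenerated_of_iso e.symm h1) (h.surjective_one hd)

end Groth.L22.Reg
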