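import Groth.Agent.L22.Reg.Cx
import Groth.Agent.L03.Euler.Basic

/-!
Chasing cohomology through augmented Koszul complexes.
-/

set_option autoImplicit false
set_option backward.isDefEq.respectTransparency false
set_option linter.style.haveILetI false
universe u

open CategoryTheory CategoryTheory.Limits AlgebraicGeometry TopologicalSpace
open scoped ZeroObject

noncomputable section

namespace Groth.L22.Reg

open Groth.L00.Tensor (tensorIso tensorRightF tensorPowOne tensorAssoc)
open Groth.L16.CohLinear (hmap hmap_comp hmap_id exact_hmap_hmap exact_hmap_delta exact_delta_hmap delta)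

variable {X : Scheme.{u}} {F L : X.Modules}

/-! ### Cohomology of biproducts and zero -/

/-- The split sequence of a biproduct. -/
def biSC (A B : X.Modules) : ShortComplex X.Modules :=
  ShortComplex.mk (biprod.inl : A ⟶ A ⊞ B) biprod.snd biprod.inl_snd

theorem biSC_shortExact (A B : X.Modules) : (biSC A B).ShortExact :=
  ShortComplex.Splitting.shortExact
    { r := biprod.fst
      s := biprod.inr
      f_r := biprod.inl_fst
      s_g := biprod.inr_snd
      id := biprod.total }

theorem subsingleton_of_exact {A B C : Type u} [AddCommGroup A] [AddCommGroup B] [AddCommGroup C]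
    {f : A → B} {g : B → C} (h : Function.Exact f g) (hA : Subsingleton A) (hC : Subsingleton C)
    (hf : f 0 = 0) : Subsingleton B :=
  subsingleton_of_forall_eq 0 fun y => by
    obtain ⟨a, rfl⟩ := (h y).1 (Subsingleton.elim _ _)
    rw [Subsingleton.elim a 0, hf]

theorem subsingleton_biprod {A B : X.Modules} (n : ℕ) (hA : Subsingleton (Coh.HH X A n))
    (hB : Subsingleton (Coh.HH X B n)) : Subsingleton (Coh.HH X (A ⊞ B) n) :=
  subsingleton_of_exact (exact_hmap_hmap (biSC_shortExact A B) n) hA hB (map_zero _)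

theorem subsingleton_iso {A B : X.Modules} (e : A ≅ B) (n : ℕ) (h : Subsingleton (Coh.HH X A n)) :
    Subsingleton (Coh.HH X B n) :=
  subsingleton_of_forall_eq 0 fun y => by
    have h1 := hmap_comp e.inv e.hom n y
    rw [e.inv_hom_id, hmap_id, Subsingleton.elim (hmap e.inv n y) 0, map_zero] at h1
    exact h1

/-! ### Syzygies -/

variable (C : Aug X F)

/-- The object whose map to the previous one is killed by the `j`th differential. -/
def Aug.tgt : ℕ → X.Modules
  | 0 => F
  | j + 1 => C.obj j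

/-- The differential out of the `j`th term. -/
def Aug.out : ∀ j, C.obj j ⟶ C.tgt j
  | 0 => C.aug
  | j + 1 => C.d j

theorem Aug.d_out : ∀ j, C.d j ≫ C.out j = 0
  | 0 => C.d_aug
  | j + 1 => C.d_d j

/-- The syzygies. -/
def Aug.Z (j : ℕ) : X.Modules := kernel (C.out j)

/-- The inclusion of the syzygies. -/
def Aug.ι (j : ℕ) : C.Z j ⟶ C.obj j := kernel.ι (C.out j)

/-- The map onto the syzygies. -/
def Aug.π (j : ℕ) : C.obj (j + 1) ⟶ C.Z j := kernel.lift _ (C.d j) (C.d_out j)

theorem Aug.π_ι (j : ℕ) : C.π j ≫ C.ι j = C.d j := kernel.lift_ι _ _ _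

instance (j : ℕ) : Mono (C.ι j) := inferInstanceAs (Mono (kernel.ι _))

theorem Aug.ι_π (j : ℕ) : C.ι (j + 1) ≫ C.π j = 0 := by
  rw [← cancel_mono (C.ι j), Category.assoc, C.π_ι, zero_comp]
  exact kernel.condition (C.out (j + 1))

/-- The short sequence of syzygies. -/
def Aug.zSC (j : ℕ) : ShortComplex X.Modules := ShortComplex.mk (C.ι (j + 1)) (C.π j) (C.ι_π j)

/-- The bottom sequence. -/
def Aug.zSC₀ : ShortComplex X.Modules :=
  ShortComplex.mk (C.ι 0) C.aug (kernel.condition (C.out 0))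

variable {C}

theorem injective_sm_ι (x : X) (j : ℕ) : Function.Injective (sm x (C.ι j)) :=
  (Groth.L21.Mod.mono_iff_stalk_injective (C.ι j)).1 inferInstance x

theorem zSC₀_shortExact (h : ∀ x, C.ExactAtPt x) : C.zSC₀.ShortExact := by
  haveI : Mono C.zSC₀.f := inferInstanceAs (Mono (C.ι 0))
  haveI : Epi C.zSC₀.g := (Groth.L21.Mod.epi_iff_stalk_surjective C.aug).2 fun x => (h x).1
  exact ⟨ShortComplex.exact_of_f_is_kernel _ (kernelIsKernel (C.out 0))⟩

theorem zSC_shortExact (h : ∀ x, C.ExactAtPt x) (j : ℕ) : (C.zSC j).ShortExact := by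
  haveI : Mono (C.zSC j).f := inferInstanceAs (Mono (C.ι (j + 1)))
  haveI : Epi (C.zSC j).g := (Groth.L21.Mod.epi_iff_stalk_surjective (C.π j)).2 fun x v => by
    have h0 : sm x (C.out j) (sm x (C.ι j) v) = 0 := by
      rw [← sm_comp, show C.ι j ≫ C.out j = 0 from kernel.condition _, sm_zero]
    have hw : ∃ w, sm x (C.d j) w = sm x (C.ι j) v := by
      rcases j with _ | j
      · exact (h x).2.1 _ h0
      · exact (h x).2.2 j _ h0
    obtain ⟨w, hw⟩ := hw
    refine ⟨w, injective_sm_ι x j ?_⟩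
    show sm x (C.ι j) (sm x (C.π j) w) = _
    rw [← sm_comp, C.π_ι, hw]
  exact ⟨ShortComplex.exact_of_f_is_kernel _
    (isKernelOfComp (f := C.π j) (C.ι j) (C.d j) (kernelIsKernel (C.out (j + 1))) (C.ι_π j) (C.π_ι j))⟩

theorem isZero_Z {j : ℕ} (hz : IsZero (C.obj j)) : IsZero (C.Z j) :=
  IsZero.of_mono (C.ι j) hz

/-! ### The chase -/

theorem subsingleton_Z (h : ∀ x, C.ExactAtPt x) {N : ℕ} (hN : ∀ j, N ≤ j → IsZero (C.obj j)) {q : ℕ}
    (hv : ∀ j, Subsingleton (Coh.HH X (C.obj (j + 1)) (q + (j + 1)))) (j : ℕ) :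
    Subsingleton (Coh.HH X (C.Z j) (q + (j + 1))) := by
  obtain ⟨i, hi⟩ : ∃ i, N ≤ j + i := ⟨N, by omega⟩
  induction i generalizing j with
  | zero => exact Groth.L03.Euler.subsingleton_HH_of_isZero (isZero_Z (hN j (by omega))) _
  | succ i ih =>
    refine subsingleton_of_exact (exact_hmap_delta (zSC_shortExact h j) (q + (j + 1))) (hv j) ?_ (map_zero _)
    exact ih (j + 1) (by omega)

theorem surjective_aug (h : ∀ x, C.ExactAtPt x) {N : ℕ} (hN : ∀ j, N ≤ j → IsZero (C.obj j)) {q : ℕ}
    (hv : ∀ j, Subsingleton (Coh.HH X (C.obj (j + 1)) (q + (j + 1)))) :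
    Function.Surjective (hmap C.aug q) := fun y => by
  haveI := subsingleton_Z h hN hv 0
  exact (exact_hmap_delta (zSC₀_shortExact h) q y).1 (Subsingleton.elim (α := Coh.HH X (C.Z 0) (q + 1)) _ _)

theorem subsingleton_aug (h : ∀ x, C.ExactAtPt x) {N : ℕ} (hN : ∀ j, N ≤ j → IsZero (C.obj j)) {q : ℕ}
    (hv : ∀ j, Subsingleton (Coh.HH X (C.obj j) (q + j))) : Subsingleton (Coh.HH X F q) :=
  subsingleton_of_forall_eq 0 fun y => by
    obtain ⟨a, rfl⟩ := surjective_aug h hN (fun j => hv (j + 1)) y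
    haveI : Subsingleton (Coh.HH X (C.obj 0) q) := hv 0
    rw [Subsingleton.elim a 0, map_zero]

/-! ### Koszul complexes -/

variable {σs : List (L ⟶ Coh.structureModule X)}

/-- `T(A ⊞ B) ≅ TA ⊞ TB`. -/
def tensorBiprod (L A B : X.Modules) :
    (tensorRightF L).obj A ⊞ (tensorRightF L).obj B ≅ (tensorRightF L).obj (A ⊞ B) :=
  haveI := preservesBinaryBiproduct_of_preservesBinaryCoproduct (tensorRightF L) (X := A) (Y := B)
  ((tensorRightF L).mapBiprod A B).symm

theorem kos_obj {PP : ℕ → X.Modules → Prop} (hz : ∀ j M, IsZero M → PP j M)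
    (hb : ∀ j A B, PP j A → PP j B → PP j (A ⊞ B)) (hi : ∀ j A B, (A ≅ B) → PP j A → PP j B)
    (h : ∀ j, PP j (CohB1.tensorMod F (CohB1.tensorPow L (j + 1)))) :
    ∀ j, PP j ((kos F σs).obj j) := by
  induction σs generalizing PP with
  | nil => exact fun j => hz _ _ (isZero_zero _)
  | cons σ l ih =>
    intro j
    rcases j with _ | j
    · exact hb 0 _ _ (hi 0 _ _ (tensorIso (Iso.refl F) (tensorPowOne L)) (h 0)) (ih hz hb hi h 0)
    · refine hb _ _ _ ?_ (ih hz hb hi h (j + 1))
      refine ih (PP := fun i M => PP (i + 1) ((tensorRightF L).obj M)) (fun i M hM => hz _ _ ?_)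
        (fun i A B hA hB => hi _ _ _ (tensorBiprod L A B) (hb _ _ _ hA hB))
        (fun i A B e hA => hi _ _ _ ((tensorRightF L).mapIso e) hA)
        (fun i => hi _ _ _ (tensorAssoc F _ L).symm (h (i + 1))) j
      exact (tensorRightF L).map_isZero hM

theorem kos_isZero : ∀ (l : List (L ⟶ Coh.structureModule X)) (j : ℕ), l.length ≤ j →
    IsZero ((kos F l).obj j)
  | [], _, _ => isZero_zero _
  | σ :: l, 0, h => absurd h (by simp)
  | σ :: l, j + 1, h => by
    have h' : l.length ≤ j := by simpa using h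
    refine IsZero.of_iso ?_ (Iso.refl ((tensorRightF L).obj ((kos F l).obj j) ⊞ (kos F l).obj (j + 1)))
    exact (biprod_isZero_iff _ _).2 ⟨(tensorRightF L).map_isZero (kos_isZero l j h'), kos_isZero l (j + 1) (by omega)⟩

theorem aug_mem (n : ℕ) (S : AddSubgroup (Coh.HH X F n)) : ∀ (l : List (L ⟶ Coh.structureModule X)),
    (∀ σ ∈ l, ∀ z, hmap (mu σ F) n z ∈ S) → ∀ y, hmap (kos F l).aug n y ∈ S
  | [], _, y => by
    show hmap (0 : _ ⟶ F) n y ∈ S
    rw [Groth.L21.RR.hmap_zero]
    exact S.zero_mem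
  | σ :: l, h, y => by
    have hy : y = hmap biprod.inl n (hmap biprod.fst n y) + hmap biprod.inr n (hmap biprod.snd n y) := by
      rw [← hmap_comp, ← hmap_comp, ← Groth.L21.RR.hmap_add, biprod.total, hmap_id]
    rw [hy, map_add]
    refine S.add_mem ?_ ?_
    · show hmap (biprod.desc (mu σ F) (kos F l).aug) n (hmap biprod.inl n _) ∈ S
      rw [← hmap_comp, biprod.inl_desc]
      exact h σ List.mem_cons_self _
    · show hmap (biprod.desc (mu σ F) (kos F l).aug) n (hmap biprod.inr n _) ∈ S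
      rw [← hmap_comp, biprod.inr_desc]
      exact aug_mem n S l (fun τ hτ => h τ (List.mem_cons_of_mem _ hτ)) _

/-- A family of maps `L ⟶ O` without common zero. -/
def Generates (σs : List (L ⟶ Coh.structureModule X)) : Prop :=
  ∀ x, ∃ τ ∈ σs, Function.Bijective (sm x τ)

/-- Vanishing propagates along twists. -/
theorem subsingleton_of_twists (hL : PicF.IsInvertible L) (hσ : Generates σs) {q : ℕ}
    (h : ∀ j, Subsingleton (Coh.HH X (CohB1.tensorMod F (CohB1.tensorPow L (j + 1))) (q + j))) :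
    Subsingleton (Coh.HH X F q) :=
  subsingleton_aug (fun x => kos_exactAtPt x hL (hσ x)) (kos_isZero σs)
    (kos_obj (PP := fun j M => Subsingleton (Coh.HH X M (q + j)))
      (fun _ _ hM => Groth.L03.Euler.subsingleton_HH_of_isZero hM _)
      (fun _ _ _ => subsingleton_biprod _) (fun _ _ _ e => subsingleton_iso e _) h)

/-- The images of the multiplications generate. -/
theorem mem_of_twists (hL : PicF.IsInvertible L) (hσ : Generates σs) {q : ℕ}
    (h : ∀ j, Subsingleton (Coh.HH X (CohB1.tensorMod F (CohB1.tensorPow L (j + 2))) (q + (j + 1))))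
    (S : AddSubgroup (Coh.HH X F q)) (hS : ∀ σ ∈ σs, ∀ z, hmap (mu σ F) q z ∈ S) (y : Coh.HH X F q) :
    y ∈ S := by
  have hk := kos_obj (F := F) (σs := σs)
    (PP := fun j M => 1 ≤ j → Subsingleton (Coh.HH X M (q + j)))
    (fun _ _ hM _ => Groth.L03.Euler.subsingleton_HH_of_isZero hM _)
    (fun _ _ _ hA hB hj => subsingleton_biprod _ (hA hj) (hB hj))
    (fun _ _ _ e hA hj => subsingleton_iso e _ (hA hj)) (fun j hj => by
      obtain ⟨i, rfl⟩ := Nat.exists_eq_add_of_le hj
      rw [Nat.add_comm 1 i]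
      exact h i)
  obtain ⟨a, rfl⟩ := surjective_aug (fun x => kos_exactAtPt x hL (hσ x)) (kos_isZero σs)
    (q := q) (fun j => hk (j + 1) (by omega)) y
  exact aug_mem q S σs hS a

end Groth.L22.Reg
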