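import Groth.Agent.L22.Reg.Seq
import Groth.Agent.L16.ProperFinite
import Groth.Agent.L16.CohKernel
import Groth.Agent.L16.ProjSpace.CohFinite
import Groth.Agent.L16.ProjSpace.SerreVanishing

/-!
Linear presentations of regular modules on projective space over a field.
-/

set_option autoImplicit false
set_option backward.isDefEq.respectTransparency false
set_option linter.style.haveILetI false
universe u

open CategoryTheory CategoryTheory.Limits AlgebraicGeometry TopologicalSpace Opposite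

noncomputable section

namespace Groth.L22.Reg

open Groth.L00.Tensor (tensorMap tensorIso tensorRightF tensorUnitLeft)
open Groth.L16
open Groth.L16.CohLinear (hmap hmap_comp hmap_id overLin exact_hmap_hmap exact_hmap_delta exact_delta_hmap)
open Groth.L21.RR (e0 e0_hmap oneSec exists_hom_of_hh0)
open Groth.L18.GenLoc (secOf homOfSection_secOf)

variable {k : Type u} [Field k] {n : ℕ}

theorem nonempty_tensor_sigma {R : Type u} [CommRing R] {b : ℕ} (M : Fin b → (CohB1.ProjSpace n R).Modules)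
    (L : (CohB1.ProjSpace n R).Modules) :
    Nonempty ((tensorRightF L).obj (∐ M) ≅ ∐ fun j => (tensorRightF L).obj (M j)) := by
  haveI := Groth.L00.Tensor.preservesColimits_tensorRightF L
  haveI : PreservesColimitsOfSize.{0, 0} (tensorRightF L) := preservesColimitsOfSize_shrink.{0, u, 0, u} _
  exact ⟨PreservesCoproduct.iso (tensorRightF L) M⟩

theorem subsingleton_sigma_twist {R : Type u} [CommRing R] (b : ℕ) {a d : ℤ} {q : ℕ}
    (h₀ : ¬ (q = 0 ∧ 0 ≤ a + d)) (hn : ¬ (q = n ∧ a + d ≤ -((n : ℤ) + 1))) :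
    Subsingleton (Coh.HH (CohB1.ProjSpace n R) (tw' (∐ fun _ : Fin b => O' n R a) d) q) := by
  obtain ⟨e⟩ := nonempty_tensor_sigma (n := n) (fun _ : Fin b => O' n R a) (O' n R d)
  refine subsingleton_iso e.symm q (ProjSpace.subsingleton_sigma _ q fun _ => ?_)
  obtain ⟨e'⟩ := nonempty_O_add (n := n) (R := R) (show a + d = a + d from rfl)
  exact subsingleton_iso e'.symm q (ProjSpace.subsingleton_HH_twist n R _ q h₀ hn)

theorem regular_sigma_twist {R : Type u} [CommRing R] (b : ℕ) {a m : ℤ} (h : 0 ≤ a + m) :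
    Regular (∐ fun _ : Fin b => O' n R a) m := fun q hq =>
  subsingleton_sigma_twist b (by omega) (fun hh => by omega)

theorem isProper_over_proj :
    IsProper (CohB1.ProjSpace n k ↘ Spec (CommRingCat.of k)) :=
  inferInstanceAs (IsProper (CohB1.ProjSpace.toSpec n k))

/-- A globally generated coherent module has a finite presentation by sections spanning `H⁰`. -/
theorem exists_epi_free {G : (CohB1.ProjSpace n k).Modules} (hG : Coh.IsCoh G)
    (hgg : Curv2.IsGloballyGenerated G) :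
    ∃ (b : ℕ) (p : (∐ fun _ : Fin b => Coh.structureModule (CohB1.ProjSpace n k)) ⟶ G),
      Epi p ∧ Function.Surjective (hmap p 0) := by
  haveI := isProper_over_proj (k := k) (n := n)
  haveI : Module.Finite k (Coh.HH (CohB1.ProjSpace n k) G 0) := Groth.L16.ProperFinite.finite_HH k hG 0
  obtain ⟨b, s, hs⟩ := Module.Finite.exists_fin (R := k) (M := Coh.HH (CohB1.ProjSpace n k) G 0)
  choose φ hφ using fun j => exists_hom_of_hh0 (s j)
  let p : (∐ fun _ : Fin b => Coh.structureModule (CohB1.ProjSpace n k)) ⟶ G := Sigma.desc φ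
  have hsurj : Function.Surjective (hmap p 0) := by
    suffices hr : LinearMap.range (overLin k (hmap p 0)) = ⊤ from fun y =>
      (LinearMap.range_eq_top.1 hr y)
    rw [eq_top_iff, ← hs, Submodule.span_le]
    rintro _ ⟨j, rfl⟩
    refine ⟨hmap (Sigma.ι (fun _ : Fin b => Coh.structureModule (CohB1.ProjSpace n k)) j) 0
      ((e0 _).symm (oneSec _)), ?_⟩
    refine (e0 G).injective ?_
    show e0 G (hmap p 0 (hmap _ 0 _)) = e0 G (s j)
    rw [← hmap_comp, Sigma.ι_desc, e0_hmap, AddEquiv.apply_symm_apply, hφ]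
  refine ⟨b, p, ?_, hsurj⟩
  obtain ⟨ι, q, hq⟩ := hgg
  have hl : ∀ i : ι, ∃ l : Coh.structureModule (CohB1.ProjSpace n k) ⟶
      (∐ fun _ : Fin b => Coh.structureModule (CohB1.ProjSpace n k)),
      l ≫ p = Sigma.ι (fun _ : ι => Coh.structureModule (CohB1.ProjSpace n k)) i ≫ q := by
    intro i
    obtain ⟨z, hz⟩ := hsurj ((e0 G).symm (secOf (L := G)
      (Sigma.ι (fun _ : ι => Coh.structureModule (CohB1.ProjSpace n k)) i ≫ q)))
    obtain ⟨l, hl⟩ := exists_hom_of_hh0 z
    refine ⟨l, (homOfSection_secOf _).symm.trans ((congrArg (Groth.L16.homOfSection G) ?_).trans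
      (homOfSection_secOf _))⟩
    show p.app ⊤ (l.app ⊤ (oneSec _)) = _
    rw [hl, ← e0_hmap, hz, AddEquiv.apply_symm_apply]
  choose l hl using hl
  let lift : (freeM (CohB1.ProjSpace n k) ι) ⟶
      (∐ fun _ : Fin b => Coh.structureModule (CohB1.ProjSpace n k)) := Sigma.desc l
  have he : lift ≫ p = q := Sigma.hom_ext _ _ fun i =>
    ((reassoc_of% (Sigma.ι_desc l i : Sigma.ι (fun _ : ι => Coh.structureModule (CohB1.ProjSpace n k)) i ≫
      Sigma.desc l = l i)) p).trans (hl i)
  haveI : Epi (lift ≫ p) := by rw [he]; exact hq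
  exact epi_of_epi lift p

theorem exists_linear_presentation {F : (CohB1.ProjSpace n k).Modules} (hF : Coh.IsCoh F) {m : ℤ}
    (h : Regular F m) :
    ∃ (b : ℕ) (φ : (∐ fun _ : Fin b => O' n k (-m)) ⟶ F), Epi φ ∧ Regular (kernel φ) (m + 1) := by
  have hG : Coh.IsCoh (tw' F m) := Groth.L03.Euler.isCoh_tensor (ProjTwist.isInvertible_twistProjSpace n k m) hF
  have hG0 : Regular (tw' F m) 0 := regular_tw.2 (by rwa [add_zero])
  obtain ⟨b, p, hp, hsurj⟩ := exists_epi_free hG (h.isGloballyGenerated hF le_rfl)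
  let S := ShortComplex.mk (kernel.ι p) p (kernel.condition p)
  have hS : S.ShortExact := { exact := ShortComplex.exact_kernel p, epi_g := hp }
  obtain ⟨e0'⟩ := nonempty_O_zero n k
  have hE : ∀ (d : ℤ) (q : ℕ), 1 ≤ q → -(n : ℤ) ≤ d →
      Subsingleton (Coh.HH (CohB1.ProjSpace n k) (tw' S.X₂ d) q) := fun d q hq hd =>
    (subsingleton_congr_iso (tensorIso (Sigma.mapIso fun _ : Fin b => e0') (Iso.refl _)) q).1
      (subsingleton_sigma_twist b (by omega) (fun hh => by omega))
  have hK : Coh.IsCoh S.X₁ := by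
    refine (CohKernel.isCoh_kernel_cokernel ?_ hG p).1
    exact Groth.L16.CohSupport.isCoh_of_iso (Sigma.mapIso fun _ : Fin b => e0')
      (ProjSpace.isCoh_sigma_twist n k fun _ : Fin b => (0 : ℤ))
  haveI := hK.1
  have hK1 : Regular S.X₁ 1 := regular_of_le_n fun q hq hqn => by
    obtain ⟨q, rfl⟩ : ∃ q', q = q' + 1 := ⟨q - 1, by omega⟩
    rcases Nat.eq_zero_or_pos q with rfl | hq'
    · obtain ⟨ez⟩ := nonempty_tw_zero S.X₁
      rw [show (1 : ℤ) - ((0 + 1 : ℕ) : ℤ) = 0 by norm_num]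
      refine subsingleton_iso ez.symm _ (subsingleton_of_forall_eq 0 fun y => ?_)
      obtain ⟨ez2⟩ := nonempty_tw_zero S.X₂
      haveI := subsingleton_iso ez2 _ (hE 0 (0 + 1) le_rfl (by omega))
      obtain ⟨z, rfl⟩ := ((exact_delta_hmap hS 0) y).1 (Subsingleton.elim _ _)
      obtain ⟨w, rfl⟩ := hsurj z
      exact ((exact_hmap_delta hS 0) _).2 ⟨w, rfl⟩
    · refine subsingleton_of_exact (exact_delta_hmap (shortExact_tw hS _) q) ?_
        (hE _ _ hq (by omega)) (map_zero _)
      rw [show (1 : ℤ) - ((q + 1 : ℕ) : ℤ) = 0 - (q : ℤ) by omega]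
      exact hG0 q hq'
  obtain ⟨e1⟩ := nonempty_tw_tw F (show m + -m = 0 by omega)
  obtain ⟨e2⟩ := nonempty_tw_zero F
  obtain ⟨e3⟩ := nonempty_tensor_sigma (n := n) (fun _ : Fin b => Coh.structureModule (CohB1.ProjSpace n k))
    (O' n k (-m))
  let eE : (∐ fun _ : Fin b => O' n k (-m)) ≅
      (tensorRightF (O' n k (-m))).obj (∐ fun _ : Fin b => Coh.structureModule (CohB1.ProjSpace n k)) :=
    Sigma.mapIso (fun _ => (tensorUnitLeft (O' n k (-m))).symm) ≪≫ e3.symm
  let T := S.map (tensorRightF (O' n k (-m)))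
  have hT : T.ShortExact := shortExact_tw hS (-m)
  haveI := hT.epi_g
  haveI := hT.mono_f
  let φ := eE.hom ≫ T.g ≫ (e1 ≪≫ e2).hom
  refine ⟨b, φ, inferInstanceAs (Epi (eE.hom ≫ T.g ≫ (e1 ≪≫ e2).hom)), ?_⟩
  let ek : kernel φ ≅ T.X₁ :=
    kernelIsIsoComp eE.hom _ ≪≫ kernelCompMono T.g _ ≪≫
      (IsLimit.conePointUniqueUpToIso hT.fIsKernel (kernelIsKernel T.g)).symm
  exact regular_iso ek.symm (regular_tw.2 (by rwa [show -m + (m + 1) = (1 : ℤ) by omega]))

theorem regular_of_presentation {R : Type u} [CommRing R] {F : (CohB1.ProjSpace n R).Modules} {m : ℤ} {b : ℕ}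
    (φ : (∐ fun _ : Fin b => O' n R (-m)) ⟶ F) [Epi φ] (h : Regular (kernel φ) (m + 1)) : Regular F m :=
  Regular.of_middle_right (S := ShortComplex.mk (kernel.ι φ) φ (kernel.condition φ))
    { exact := ShortComplex.exact_kernel φ } (regular_sigma_twist b (by omega)) h

end Groth.L22.Reg
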