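import Groth.Agent.L03.Euler.Twist
import Groth.Agent.L21.Mod.Stalks
import Groth.Agent.L21.RR.Coh

/-!
Augmented Koszul complexes of a family of maps `L ⟶ O` with values in a module.
-/

set_option autoImplicit false
set_option backward.isDefEq.respectTransparency false
set_option linter.style.haveILetI false
universe u

open CategoryTheory CategoryTheory.Limits AlgebraicGeometry TopologicalSpace
open scoped ZeroObject

noncomputable section

namespace Groth.L22.Reg

open Groth.L00.Tensor (tensorIso tensorMap tensorRightF tensorUnitRight)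

variable {X : Scheme.{u}}

/-- An augmented chain complex. -/
structure Aug (X : Scheme.{u}) (F : X.Modules) where
  obj : ℕ → X.Modules
  d : ∀ j, obj (j + 1) ⟶ obj j
  aug : obj 0 ⟶ F
  d_d : ∀ j, d (j + 1) ≫ d j = 0
  d_aug : d 0 ≫ aug = 0

/-- The stalk map of a morphism. -/
abbrev sm (x : X) {A B : X.Modules} (f : A ⟶ B) :
    (Groth.L00.Stk.F X x).obj A → (Groth.L00.Stk.F X x).obj B :=
  (Groth.L00.Stk.F X x).map f

instance (x : X) : (Groth.L00.Stk.F X x).Additive :=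
  Functor.additive_of_preserves_binary_products _

variable (x : X)

theorem sm_comp {A B C : X.Modules} (f : A ⟶ B) (g : B ⟶ C) (v : (Groth.L00.Stk.F X x).obj A) :
    sm x (f ≫ g) v = sm x g (sm x f v) := by
  simp only [sm, Functor.map_comp]; rfl

theorem sm_add {A B : X.Modules} (f g : A ⟶ B) (v : (Groth.L00.Stk.F X x).obj A) :
    sm x (f + g) v = sm x f v + sm x g v := by
  simp only [sm, Functor.map_add]; rfl

theorem sm_zero {A B : X.Modules} (v : (Groth.L00.Stk.F X x).obj A) : sm x (0 : A ⟶ B) v = 0 := by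
  simp only [sm, Functor.map_zero]; rfl

theorem sm_neg {A B : X.Modules} (f : A ⟶ B) (v : (Groth.L00.Stk.F X x).obj A) :
    sm x (-f) v = -sm x f v := by
  simp only [sm, Functor.map_neg]; rfl

theorem sm_id {A : X.Modules} (v : (Groth.L00.Stk.F X x).obj A) : sm x (𝟙 A) v = v := by
  simp [sm]

theorem sm_map_add {A B : X.Modules} (f : A ⟶ B) (v w : (Groth.L00.Stk.F X x).obj A) :
    sm x f (v + w) = sm x f v + sm x f w :=
  map_add ((Groth.L00.Stk.F X x).map f).hom v w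

theorem sm_map_sub {A B : X.Modules} (f : A ⟶ B) (v w : (Groth.L00.Stk.F X x).obj A) :
    sm x f (v - w) = sm x f v - sm x f w :=
  map_sub ((Groth.L00.Stk.F X x).map f).hom v w

theorem sm_map_neg {A B : X.Modules} (f : A ⟶ B) (v : (Groth.L00.Stk.F X x).obj A) :
    sm x f (-v) = -sm x f v :=
  map_neg ((Groth.L00.Stk.F X x).map f).hom v

theorem sm_map_zero {A B : X.Modules} (f : A ⟶ B) : sm x f (0 : (Groth.L00.Stk.F X x).obj A) = 0 :=
  map_zero ((Groth.L00.Stk.F X x).map f).hom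

theorem sm_decomp {A B : X.Modules} (z : (Groth.L00.Stk.F X x).obj (A ⊞ B)) :
    sm x biprod.inl (sm x biprod.fst z) + sm x biprod.inr (sm x biprod.snd z) = z := by
  rw [← sm_comp, ← sm_comp, ← sm_add, biprod.total, sm_id]

theorem sm_ext {A B : X.Modules} {z z' : (Groth.L00.Stk.F X x).obj (A ⊞ B)}
    (h₁ : sm x biprod.fst z = sm x biprod.fst z') (h₂ : sm x biprod.snd z = sm x biprod.snd z') : z = z' := by
  rw [← sm_decomp x z, h₁, h₂, sm_decomp x z']

/-- The middle of two rows joined by a vertical map. -/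
theorem step {A₂ A₁ A₀ B₂ B₁ B₀ : X.Modules} {a₂ : A₂ ⟶ A₁} {a₁ : A₁ ⟶ A₀} {b₂ : B₂ ⟶ B₁}
    {b₁ : B₁ ⟶ B₀} {m₂ : A₂ ⟶ B₁} {m₁ : A₁ ⟶ B₀} (hc : a₂ ≫ m₁ = m₂ ≫ b₁)
    (h : ((∀ u, sm x a₁ u = 0 → ∃ u', sm x a₂ u' = u) ∧ (∀ v, sm x b₁ v = 0 → ∃ v', sm x b₂ v' = v)) ∨
      (Function.Bijective (sm x m₂) ∧ Function.Injective (sm x m₁)))
    (z : (Groth.L00.Stk.F X x).obj (A₁ ⊞ B₁)) (ha : sm x a₁ (sm x biprod.fst z) = 0)
    (hb : sm x m₁ (sm x biprod.fst z) + sm x b₁ (sm x biprod.snd z) = 0) :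
    ∃ w, sm x (biprod.lift (-(biprod.fst ≫ a₂)) (biprod.fst ≫ m₂ + biprod.snd ≫ b₂) :
      A₂ ⊞ B₂ ⟶ A₁ ⊞ B₁) w = z := by
  have key : ∀ (u' : (Groth.L00.Stk.F X x).obj A₂) (v' : (Groth.L00.Stk.F X x).obj B₂),
      sm x biprod.fst z = -sm x a₂ u' → sm x biprod.snd z = sm x m₂ u' + sm x b₂ v' →
      ∃ w, sm x (biprod.lift (-(biprod.fst ≫ a₂)) (biprod.fst ≫ m₂ + biprod.snd ≫ b₂) :
        A₂ ⊞ B₂ ⟶ A₁ ⊞ B₁) w = z := by
    intro u' v' h₁ h₂
    have e₁ : sm x biprod.fst (sm x (biprod.inl : A₂ ⟶ A₂ ⊞ B₂) u' + sm x biprod.inr v') = u' := by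
      rw [sm_map_add, ← sm_comp, ← sm_comp, biprod.inl_fst, biprod.inr_fst, sm_id, sm_zero, add_zero]
    have e₂ : sm x biprod.snd (sm x (biprod.inl : A₂ ⟶ A₂ ⊞ B₂) u' + sm x biprod.inr v') = v' := by
      rw [sm_map_add, ← sm_comp, ← sm_comp, biprod.inl_snd, biprod.inr_snd, sm_id, sm_zero, zero_add]
    refine ⟨sm x biprod.inl u' + sm x biprod.inr v', sm_ext x ?_ ?_⟩
    · rw [← sm_comp, biprod.lift_fst, sm_neg, sm_comp, e₁, h₁]
    · rw [← sm_comp, biprod.lift_snd, sm_add, sm_comp, sm_comp, e₁, e₂, h₂]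
  have hc' : ∀ u', sm x m₁ (sm x a₂ u') = sm x b₁ (sm x m₂ u') := fun u' => by
    rw [← sm_comp, ← sm_comp, hc]
  rcases h with ⟨hA, hB⟩ | ⟨hm₂, hm₁⟩
  · obtain ⟨u, hu⟩ := hA _ ha
    have hu' : sm x biprod.fst z = -sm x a₂ (-u) := by rw [← hu, sm_map_neg, neg_neg]
    obtain ⟨v', hv'⟩ := hB (sm x biprod.snd z - sm x m₂ (-u)) (by
      rw [sm_map_sub, ← hc', sm_map_neg, sm_map_neg, sub_neg_eq_add, hu, add_comm]
      exact hb)
    exact key (-u) v' hu' (by rw [hv', add_sub_cancel])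
  · obtain ⟨u', hu'⟩ := hm₂.2 (sm x biprod.snd z)
    refine key u' 0 ?_ (by rw [hu', sm_map_zero, add_zero])
    rw [eq_neg_iff_add_eq_zero]
    refine hm₁ ?_
    rw [sm_map_add, sm_map_zero, hc', hu']
    exact hb

variable {F : X.Modules}

/-- Exactness at a point. -/
def Aug.ExactAtPt (C : Aug X F) : Prop :=
  (∀ v, ∃ w, sm x C.aug w = v) ∧ (∀ v, sm x C.aug v = 0 → ∃ w, sm x (C.d 0) w = v) ∧
    ∀ j v, sm x (C.d j) v = 0 → ∃ w, sm x (C.d (j + 1)) w = v

/-- The empty complex. -/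
def nil (F : X.Modules) : Aug X F where
  obj _ := 0
  d _ := 0
  aug := 0
  d_d _ := comp_zero
  d_aug := comp_zero

variable {L : X.Modules}

/-- Multiplication by `σ : L ⟶ O`. -/
def mu (σ : L ⟶ Coh.structureModule X) (M : X.Modules) : (tensorRightF L).obj M ⟶ M :=
  tensorMap (𝟙 M) σ ≫ (tensorUnitRight M).hom

theorem tensorUnitRight_natural {M N : X.Modules} (g : M ⟶ N) :
    tensorMap g (𝟙 (Coh.structureModule X)) ≫ (tensorUnitRight N).hom = (tensorUnitRight M).hom ≫ g := by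
  have h1 : MonoidalCategory.tensorHom ((Groth.L00.Tensor.preF X).map g) ((Groth.L00.Tensor.preF X).map (𝟙 (Coh.structureModule X))) ≫
      (MonoidalCategory.rightUnitor (Groth.L00.Tensor.pre N)).hom =
      (MonoidalCategory.rightUnitor (Groth.L00.Tensor.pre M)).hom ≫ (Groth.L00.Tensor.preF X).map g := by
    rw [CategoryTheory.Functor.map_id, MonoidalCategory.tensorHom_id]
    exact MonoidalCategory.rightUnitor_naturality _
  refine ((Category.assoc _ _ _).symm.trans ?_)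
  refine (congrArg (· ≫ _) (((Groth.L00.Tensor.shf X).map_comp _ _).symm.trans
    ((congrArg (Groth.L00.Tensor.shf X).map h1).trans ((Groth.L00.Tensor.shf X).map_comp _ _)))).trans ?_
  refine (Category.assoc _ _ _).trans ((congrArg (_ ≫ ·) ?_).trans (Category.assoc _ _ _).symm)
  exact (PresheafOfModules.sheafificationAdjunction (𝟙 X.ringCatSheaf.obj)).counit.naturality g

theorem mu_natural (σ : L ⟶ Coh.structureModule X) {M N : X.Modules} (f : M ⟶ N) :
    (tensorRightF L).map f ≫ mu σ N = mu σ M ≫ f := by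
  show tensorMap f (𝟙 L) ≫ tensorMap (𝟙 N) σ ≫ _ = (tensorMap (𝟙 M) σ ≫ _) ≫ f
  rw [Category.assoc, ← tensorUnitRight_natural, ← Category.assoc, ← Category.assoc,
    ← Groth.L00.Tensor.tensorMap_comp, ← Groth.L00.Tensor.tensorMap_comp, Category.comp_id,
    Category.id_comp, Category.id_comp, Category.comp_id]

/-- The terms of the cone of multiplication. -/
def coneObj (L : X.Modules) (C : Aug X F) : ℕ → X.Modules
  | 0 => (tensorRightF L).obj F ⊞ C.obj 0
  | j + 1 => (tensorRightF L).obj (C.obj j) ⊞ C.obj (j + 1)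

variable (σ : L ⟶ Coh.structureModule X)

/-- The differentials of the cone of multiplication. -/
def coneD (C : Aug X F) : ∀ j, coneObj L C (j + 1) ⟶ coneObj L C j
  | 0 => biprod.lift (-(biprod.fst ≫ (tensorRightF L).map C.aug))
      (biprod.fst ≫ mu σ (C.obj 0) + biprod.snd ≫ C.d 0)
  | j + 1 => biprod.lift (-(biprod.fst ≫ (tensorRightF L).map (C.d j)))
      (biprod.fst ≫ mu σ (C.obj (j + 1)) + biprod.snd ≫ C.d (j + 1))

theorem lift_comp_desc {A₂ A₁ B₂ B₁ Z : X.Modules} {a₂ : A₂ ⟶ A₁} {b₂ : B₂ ⟶ B₁} {m₂ : A₂ ⟶ B₁}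
    {p : A₁ ⟶ Z} {q : B₁ ⟶ Z} (h : a₂ ≫ p = m₂ ≫ q) (hb : b₂ ≫ q = 0) :
    biprod.lift (-(biprod.fst ≫ a₂)) (biprod.fst ≫ m₂ + biprod.snd ≫ b₂) ≫ biprod.desc p q = 0 := by
  rw [biprod.lift_desc, Preadditive.neg_comp, Preadditive.add_comp, Category.assoc, Category.assoc,
    Category.assoc, h, hb, comp_zero, add_zero, neg_add_cancel]

theorem lift_comp_lift {A₂ A₁ A₀ B₂ B₁ B₀ : X.Modules} {a₂ : A₂ ⟶ A₁} {a₁ : A₁ ⟶ A₀} {b₂ : B₂ ⟶ B₁}
    {b₁ : B₁ ⟶ B₀} {m₂ : A₂ ⟶ B₁} {m₁ : A₁ ⟶ B₀} (ha : a₂ ≫ a₁ = 0) (hb : b₂ ≫ b₁ = 0)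
    (hc : a₂ ≫ m₁ = m₂ ≫ b₁) :
    biprod.lift (-(biprod.fst ≫ a₂)) (biprod.fst ≫ m₂ + biprod.snd ≫ b₂) ≫
      biprod.lift (-(biprod.fst ≫ a₁)) (biprod.fst ≫ m₁ + biprod.snd ≫ b₁) = 0 := by
  refine biprod.hom_ext _ _ ?_ ?_
  · rw [zero_comp, Category.assoc, biprod.lift_fst, Preadditive.comp_neg, ← Category.assoc,
      biprod.lift_fst, Preadditive.neg_comp, Category.assoc, ha, comp_zero, neg_zero, neg_zero]
  · rw [zero_comp, Category.assoc, biprod.lift_snd, Preadditive.comp_add, ← Category.assoc,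
      ← Category.assoc, biprod.lift_fst, biprod.lift_snd, Preadditive.neg_comp, Preadditive.add_comp,
      Category.assoc, Category.assoc, Category.assoc, hc, hb, comp_zero, add_zero, neg_add_cancel]

/-- The cone of multiplication. -/
def cone (C : Aug X F) : Aug X F where
  obj := coneObj L C
  d := coneD σ C
  aug := biprod.desc (mu σ F) C.aug
  d_d j := match j with
    | 0 => lift_comp_lift (by rw [← Functor.map_comp, C.d_aug, Functor.map_zero]) (C.d_d 0) (mu_natural σ _)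
    | j + 1 => lift_comp_lift (by rw [← Functor.map_comp, C.d_d j, Functor.map_zero]) (C.d_d (j + 1))
        (mu_natural σ _)
  d_aug := lift_comp_desc (mu_natural σ C.aug) C.d_aug

theorem exists_theta (hL : PicF.IsInvertible L) :
    ∃ θ : ∀ M : X.Modules, (Groth.L00.Stk.F X x).obj M → (Groth.L00.Stk.F X x).obj (CohB1.tensorMod M L),
      (∀ M, Function.Bijective (θ M)) ∧ (∀ M, θ M 0 = 0) ∧
      ∀ (M N : X.Modules) (f : M ⟶ N) v, sm x ((tensorRightF L).map f) (θ M v) = θ N (sm x f v) := by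
  obtain ⟨g⟩ := Groth.L03.Euler.exists_stalk_equiv hL x
  let E : ∀ M : X.Modules, (Groth.L00.Stk.F X x).obj M ≃ₗ[X.presheaf.stalk x]
      (Groth.L00.Stk.F X x).obj (CohB1.tensorMod M L) := fun M =>
    (TensorProduct.rid _ _).symm ≪≫ₗ TensorProduct.congr (LinearEquiv.refl _ _) g ≪≫ₗ
      (Groth.L00.Stk.τ x M L).toLinearEquiv
  refine ⟨fun M => E M, fun M => (E M).bijective, fun M => map_zero (E M), fun M N f v => ?_⟩
  show sm x (tensorMap f (𝟙 L)) (E M v) = E N (sm x f v)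
  have h := ConcreteCategory.congr_hom (Groth.L00.Stk.τ_natural x f (𝟙 L))
    (TensorProduct.congr (LinearEquiv.refl _ _) g ((TensorProduct.rid _ _).symm v))
  refine h.symm.trans ?_
  simp [E, sm]
  rfl

theorem bijective_mu (hσ : Function.Bijective (sm x σ)) (M : X.Modules) : Function.Bijective (sm x (mu σ M)) := by
  haveI : IsIso ((Groth.L00.Stk.F X x).map σ) := (ConcreteCategory.isIso_iff_bijective _).2 hσ
  have hT : Function.Bijective (TensorProduct.map ((Groth.L00.Stk.F X x).map (𝟙 M)).hom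
      ((Groth.L00.Stk.F X x).map σ).hom) := by
    rw [CategoryTheory.Functor.map_id]
    exact (TensorProduct.congr (LinearEquiv.refl _ _) (LinearEquiv.ofBijective _ hσ)).bijective
  haveI : IsIso ((Groth.L00.Stk.F X x).map (tensorMap (𝟙 M) σ)) := by
    have h' : (Groth.L00.Stk.F X x).map (tensorMap (𝟙 M) σ) =
        (Groth.L00.Stk.τ x M L).inv ≫
          ModuleCat.ofHom (TensorProduct.map ((Groth.L00.Stk.F X x).map (𝟙 M)).hom
            ((Groth.L00.Stk.F X x).map σ).hom) ≫ (Groth.L00.Stk.τ x M (Coh.structureModule X)).hom :=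
      (Iso.inv_hom_id_assoc _ _).symm.trans (congrArg (_ ≫ ·) (Groth.L00.Stk.τ_natural x (𝟙 M) σ).symm)
    rw [h']
    refine (ConcreteCategory.isIso_iff_bijective _).2 ?_
    exact (Groth.L00.Stk.τ x M (Coh.structureModule X)).toLinearEquiv.bijective.comp
      (hT.comp (Groth.L00.Stk.τ x M L).toLinearEquiv.symm.bijective)
  haveI : IsIso ((Groth.L00.Stk.F X x).map (mu σ M)) := by
    rw [mu, Functor.map_comp]; infer_instance
  exact (ConcreteCategory.isIso_iff_bijective _).1 inferInstance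

theorem cone_exactAtPt (hL : PicF.IsInvertible L) (C : Aug X F)
    (h : C.ExactAtPt x ∨ Function.Bijective (sm x σ)) : (cone σ C).ExactAtPt x := by
  obtain ⟨θ, hθ, hθ0, hnat⟩ := exists_theta x hL
  have hT : ∀ {A B D : X.Modules} (a : A ⟶ B) (b : B ⟶ D),
      (∀ v, sm x b v = 0 → ∃ w, sm x a w = v) →
      ∀ u, sm x ((tensorRightF L).map b) u = 0 → ∃ u', sm x ((tensorRightF L).map a) u' = u := by
    intro A B D a b hab u hu
    obtain ⟨v, rfl⟩ := (hθ B).2 u
    rw [hnat] at hu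
    obtain ⟨w, rfl⟩ := hab v ((hθ D).1 (hu.trans (hθ0 D).symm))
    exact ⟨θ A w, hnat A B a w⟩
  refine ⟨fun v => ?_, fun z hz => ?_, fun j => ?_⟩
  · rcases h with ⟨hs, -, -⟩ | hb
    · obtain ⟨w, rfl⟩ := hs v
      refine ⟨sm x (biprod.inr : C.obj 0 ⟶ CohB1.tensorMod F L ⊞ C.obj 0) w, ?_⟩
      show sm x (biprod.desc (mu σ F) C.aug) _ = _
      rw [← sm_comp, biprod.inr_desc]
    · obtain ⟨w, rfl⟩ := (bijective_mu x σ hb F).2 v
      refine ⟨sm x (biprod.inl : CohB1.tensorMod F L ⟶ CohB1.tensorMod F L ⊞ C.obj 0) w, ?_⟩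
      show sm x (biprod.desc (mu σ F) C.aug) _ = _
      rw [← sm_comp, biprod.inl_desc]
      rfl
  · change sm x (biprod.desc (mu σ F) C.aug) z = 0 at hz
    refine step x (a₁ := (0 : CohB1.tensorMod F L ⟶ F)) (mu_natural σ C.aug) ?_ z (sm_zero x _) ?_
    · rcases h with ⟨hs, h0, -⟩ | hb
      · refine Or.inl ⟨fun u _ => ?_, h0⟩
        obtain ⟨v, rfl⟩ := (hθ F).2 u
        obtain ⟨w, rfl⟩ := hs v
        exact ⟨θ _ w, hnat _ _ C.aug w⟩
      · exact Or.inr ⟨bijective_mu x σ hb _, (bijective_mu x σ hb _).1⟩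
    · rw [← sm_comp, ← sm_comp, ← sm_add, ← biprod.desc_eq]
      exact hz
  · rcases j with _ | j
    · intro z hz
      change sm x (biprod.lift _ _) z = 0 at hz
      have h1 := congrArg (sm x biprod.fst) hz
      have h2 := congrArg (sm x biprod.snd) hz
      rw [← sm_comp, biprod.lift_fst, sm_map_zero, sm_neg, neg_eq_zero, sm_comp] at h1
      rw [← sm_comp, biprod.lift_snd, sm_map_zero, sm_add, sm_comp, sm_comp] at h2
      refine step x (mu_natural σ _) ?_ z h1 h2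
      rcases h with ⟨-, h0, hj⟩ | hb
      · exact Or.inl ⟨hT _ _ h0, hj 0⟩
      · exact Or.inr ⟨bijective_mu x σ hb _, (bijective_mu x σ hb _).1⟩
    · intro z hz
      change sm x (biprod.lift _ _) z = 0 at hz
      have h1 := congrArg (sm x biprod.fst) hz
      have h2 := congrArg (sm x biprod.snd) hz
      rw [← sm_comp, biprod.lift_fst, sm_map_zero, sm_neg, neg_eq_zero, sm_comp] at h1
      rw [← sm_comp, biprod.lift_snd, sm_map_zero, sm_add, sm_comp, sm_comp] at h2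
      refine step x (mu_natural σ _) ?_ z h1 h2
      rcases h with ⟨-, -, hj⟩ | hb
      · exact Or.inl ⟨hT _ _ (hj j), hj (j + 1)⟩
      · exact Or.inr ⟨bijective_mu x σ hb _, (bijective_mu x σ hb _).1⟩

/-- The Koszul complex of a list of maps. -/
def kos (F : X.Modules) : List (L ⟶ Coh.structureModule X) → Aug X F
  | [] => nil F
  | σ :: l => cone σ (kos F l)

theorem kos_exactAtPt (hL : PicF.IsInvertible L) : ∀ {l : List (L ⟶ Coh.structureModule X)},
    (∃ τ ∈ l, Function.Bijective (sm x τ)) → (kos F l).ExactAtPt x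
  | [], h => by simp at h
  | σ :: l, h => by
    refine cone_exactAtPt x σ hL _ ?_
    obtain ⟨τ, hτ, hb⟩ := h
    rcases List.mem_cons.1 hτ with rfl | hτ
    · exact Or.inr hb
    · exact Or.inl (kos_exactAtPt hL ⟨τ, hτ, hb⟩)

end Groth.L22.Reg
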