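import Groth.Agent.L22.Reg.Quot
import Groth.Agent.L22.Reg.Closed
import Groth.Agent.L17.ClosedPush
import Groth.Agent.L03.Euler.Hilb
import Groth.Agent.L16.ProjSpace.Dim

/-!
Quotients of free modules on a closed subscheme of projective space.
-/

set_option autoImplicit false
set_option backward.isDefEq.respectTransparency false
set_option backward.isDefEq.respectTransparency.types false
set_option linter.style.haveILetI false
universe u

open CategoryTheory CategoryTheory.Limits AlgebraicGeometry TopologicalSpace Opposite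

noncomputable section

namespace Groth.L22.Reg

open Groth.L00.Tensor (tensorMap tensorRightF tensorIso tensorAssoc tensorUnitRight tensorUnitLeft tensorPowIso)
open Groth.L16

theorem epi_unit {X Y : Scheme.{u}} (f : X ⟶ Y) [IsClosedImmersion f] (N : Y.Modules) :
    Epi ((Scheme.Modules.pullbackPushforwardAdjunction f).unit.app N) := by
  rw [Groth.L21.Mod.epi_iff_stalk_surjective]
  intro p
  let u := (Scheme.Modules.pullbackPushforwardAdjunction f).unit.app N
  change Function.Surjective ((Groth.L00.Stk.F Y p).map u)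
  by_cases hp : p ∈ Set.range f
  · obtain ⟨x, rfl⟩ := hp
    intro z
    let P := (Scheme.Modules.pullback f).obj N
    obtain ⟨q, hq⟩ := Groth.L17.ClosedPush.unit_extend_surjective f x _
      ((Groth.L00.PullStalk.stalkIso f x).hom.app N (Groth.L17.ClosedPush.c₀ f P x z))
    exact ⟨q, (Groth.L17.ClosedPush.c₀_bijective f P x).1
      ((ConcreteCategory.bijective_of_isIso ((Groth.L00.PullStalk.stalkIso f x).hom.app N)).1
        ((Groth.L17.ClosedPush.stalkIso_unit f N x q).trans hq))⟩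
  · intro z
    exact ⟨0, @Subsingleton.elim _
      (Groth.L17.ClosedPush.subsingleton_stalk_push f ((Scheme.Modules.pullback f).obj N) hp) _ _⟩

theorem exists_ses_kernel_comp {C : Type*} [Category C] [Abelian C] {A B D : C} (η : A ⟶ B) (g : B ⟶ D)
    [Epi η] [Epi g] : ∃ (u : kernel η ⟶ kernel (η ≫ g)) (v : kernel (η ≫ g) ⟶ kernel g) (w : u ≫ v = 0),
      (ShortComplex.mk u v w).ShortExact := by
  let u : kernel η ⟶ kernel (η ≫ g) := kernel.lift _ (kernel.ι η) (by rw [kernel.condition_assoc, zero_comp])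
  let v : kernel (η ≫ g) ⟶ kernel g := kernel.lift _ (kernel.ι (η ≫ g) ≫ η) (by rw [Category.assoc, kernel.condition])
  have w : u ≫ v = 0 := by simp [u, v, ← cancel_mono (kernel.ι g)]
  have hsq : IsPullback (kernel.ι (η ≫ g)) v η (kernel.ι g) :=
    IsPullback.of_isLimit' ⟨by simp [v]⟩ (PullbackCone.IsLimit.mk _
      (fun s => kernel.lift _ s.fst (by rw [s.condition_assoc, kernel.condition, comp_zero]))
      (fun s => kernel.lift_ι _ _ _)
      (fun s => by
        rw [← cancel_mono (kernel.ι g)]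
        simpa [v] using s.condition)
      fun s m h _ => by rw [← cancel_mono (kernel.ι (η ≫ g)), kernel.lift_ι, h])
  haveI : Mono u := mono_of_mono_fac (kernel.lift_ι _ _ _)
  haveI : Epi v := Abelian.epi_snd_of_isLimit _ _ hsq.isLimit
  refine ⟨u, v, w, { exact := ShortComplex.exact_of_f_is_kernel _ ?_ }⟩
  refine KernelFork.IsLimit.ofι _ _
    (fun t ht => kernel.lift _ (t ≫ kernel.ι (η ≫ g)) ?_) (fun t ht => ?_) (fun t ht m hm => ?_)
  · have h : v ≫ kernel.ι g = kernel.ι (η ≫ g) ≫ η := kernel.lift_ι _ _ _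
    rw [Category.assoc, ← h, reassoc_of% ht, zero_comp]
  · rw [← cancel_mono (kernel.ι (η ≫ g))]
    simp [u]
  · rw [← cancel_mono (kernel.ι η), kernel.lift_ι, ← hm]
    simp [u]

variable {k : Type u} [Field k] {n : ℕ}

theorem nonempty_O_one_pow (n : ℕ) (k : Type u) [Field k] :
    ∀ j : ℕ, Nonempty (CohB1.tensorPow (O' n k 1) j ≅ O' n k (j : ℤ))
  | 0 => ⟨((nonempty_O_zero n k).some).symm⟩
  | j + 1 => by
    obtain ⟨e⟩ := nonempty_O_one_pow n k j
    obtain ⟨a⟩ := nonempty_O_add (n := n) (R := k) (show (j : ℤ) + 1 = ((j + 1 : ℕ) : ℤ) by omega)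
    exact ⟨tensorIso e (Iso.refl _) ≪≫ a⟩

theorem exists_regular {F : (CohB1.ProjSpace n k).Modules} (hF : Coh.IsCoh F) : ∃ m : ℕ, Regular F m := by
  obtain ⟨d, hd⟩ := ProjSpace.exists_vanishing n k F hF
  haveI := hF.1
  refine ⟨d + n, regular_of_le_n fun q hq hqn => ?_⟩
  obtain ⟨j, hj⟩ : ∃ j : ℕ, ((d + n : ℕ) : ℤ) - q = j := ⟨d + n - q, by omega⟩
  rw [hj]
  exact ProjSpace.subsingleton_of_iso (Groth.L00.Tensor.tensorComm _ _) q (hd j (by omega) q hq)

/-- A Hilbert polynomial computes `χ(F(t))` for all integers `t`. -/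
theorem chiP_eq_eval {F : (CohB1.ProjSpace n k).Modules} (hF : Coh.IsCoh F) {P : Polynomial ℚ}
    (hP : ∀ j : ℕ, (chiP F (j : ℤ) : ℚ) = P.eval (j : ℚ)) (t : ℤ) : (chiP F t : ℚ) = P.eval (t : ℚ) := by
  haveI := isProper_over_proj (k := k) (n := n)
  obtain ⟨Q, -, hQ⟩ := Groth.L03.Euler.exists_isHilbPoly (k := k)
    (ProjTwist.isInvertible_twistProjSpace n k 1) (isCoh_tw hF t) (d := n)
    (Topology.IsInducing.subtypeVal.topologicalKrullDim_le.trans (le_of_eq (ProjSpace.topologicalKrullDim_eq_of_field n k)))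
  have hQ' : ∀ j : ℕ, (chiP F (t + j) : ℚ) = Q.eval (j : ℚ) := fun j => by
    obtain ⟨e⟩ := nonempty_O_one_pow n k j
    obtain ⟨a⟩ := nonempty_tw_tw F (show t + (j : ℤ) = t + j from rfl)
    refine Eq.trans ?_ (hQ j)
    rw [chiP_eq, ← Groth.L03.Euler.euler_iso (k := k) a]
    exact congrArg (Int.cast : ℤ → ℚ) (Groth.L03.Euler.euler_iso (tensorIso (Iso.refl (tw' F t)) e.symm))
  have h : Q = P.comp (Polynomial.X + Polynomial.C (t : ℚ)) := by
    refine Groth.L03.Euler.eq_of_eventually_eval_eq t.natAbs fun j hj => ?_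
    obtain ⟨i, hi⟩ : ∃ i : ℕ, (i : ℤ) = t + j := ⟨(t + j).toNat, by omega⟩
    rw [← hQ' j, ← hi, Polynomial.eval_comp, Polynomial.eval_add, Polynomial.eval_X, Polynomial.eval_C, hP i]
    congr 1
    exact_mod_cast (hi.trans (add_comm _ _))
  simpa [h] using hQ' 0

end Groth.L22.Reg

namespace Groth.L22.Reg

open Groth.L00.Tensor (tensorMap tensorRightF tensorIso tensorPowIso)
open Groth.L16

variable {k : Type u} [Field k] {n : ℕ}

/-- The uniform bound on kernels of quotients of a free module with given Hilbert polynomial. -/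
theorem exists_kernel_bound (n N : ℕ) (P : Polynomial ℚ) : ∃ M : ℕ, ∀ (k : Type u) [Field k]
    (F : (CohB1.ProjSpace n k).Modules) (φ : FlatMod.freeMod (CohB1.ProjSpace n k) N ⟶ F),
      Coh.IsCoh F → Epi φ → (∀ j : ℕ, (chiP F (j : ℤ) : ℚ) = P.eval (j : ℚ)) → Regular (kernel φ) (M : ℤ) := by
  rcases Nat.eq_zero_or_pos n with rfl | hn
  · refine ⟨0, fun k _ F φ hF _ _ => ?_⟩
    haveI := (CohKernel.isCoh_kernel_cokernel (isCoh_freeMod N) hF φ).1.1
    exact regular_of_le_n fun q h1 h2 => absurd (h1.trans h2) (by omega)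
  obtain ⟨M, hM⟩ := exists_good.{u} (freeB n N) (n + 1)
    fun t => (N : ℤ) * Ring.choose (t + n) n - ⌊P.eval (t : ℚ)⌋
  refine ⟨M.toNat, fun k _ F φ hF hφ hP => ?_⟩
  haveI := hφ
  refine (regular_kernel_free hn hM hF φ fun t => ?_).of_le (Int.self_le_toNat M)
  rw [← chiP_eq_eval hF hP t, Int.floor_intCast]

theorem epi_map_push {X Y : Scheme.{u}} (i : X ⟶ Y) [IsClosedImmersion i] {A B : X.Modules} (g : A ⟶ B) [Epi g] :
    Epi ((Coh.push i).map g) := by
  haveI : PreservesColimitsOfSize.{u, u} (Coh.push i) := Groth.L17.ClosedPush.preservesColimits_push i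
  haveI : PreservesFiniteColimits (Coh.push i) := PreservesColimitsOfSize.preservesFiniteColimits _
  infer_instance

theorem nonempty_twist_twistOn {X : Scheme.{u}} (i : X ⟶ CohB1.ProjSpace n k) (L : X.Modules)
    (hL : Nonempty (L ≅ (Scheme.Modules.pullback i).obj (Twist.twistProjSpace n k 1))) (M : X.Modules) (l : ℕ) :
    Nonempty (ShStab.twist X L M l ≅ Pic13.twistOn k i M (l : ℤ)) := by
  obtain ⟨a⟩ := hL
  obtain ⟨b⟩ := nonempty_O_one_pow n k l
  exact ⟨tensorIso (Iso.refl M) (tensorPowIso a l ≪≫ (Groth.L18.Ample.pullPow i _ l).symm ≪≫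
    (Scheme.Modules.pullback i).mapIso b)⟩

/-- Regularity along a composite of epimorphisms. -/
theorem regular_comp {A B D : (CohB1.ProjSpace n k).Modules} (η : A ⟶ B) (g : B ⟶ D) [Epi η] [Epi g] {m : ℤ}
    (hA : Regular A m) (hH : Regular (kernel (η ≫ g)) m) (hη : Regular (kernel η) (m + 1)) :
    Regular D m ∧ Regular (kernel g) m := by
  obtain ⟨u, v, w, hS⟩ := exists_ses_kernel_comp η g
  let S := ShortComplex.mk (kernel.ι (η ≫ g)) (η ≫ g) (kernel.condition _)
  have hS' : S.ShortExact := { exact := ShortComplex.exact_kernel _, epi_g := inferInstanceAs (Epi (η ≫ g)) }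
  exact ⟨Regular.of_middle_right (S := S) hS' hA (hH.of_le (by omega)),
    Regular.of_middle_right (S := ShortComplex.mk u v w) hS hH hη⟩

variable {X : Scheme.{u}} [X.Over (Spec (CommRingCat.of k))] (i : X ⟶ CohB1.ProjSpace n k) [IsClosedImmersion i]
  (hi : i ≫ CohB1.ProjSpace.toSpec n k = X ↘ Spec (CommRingCat.of k))

include hi

theorem chiP_push {F : X.Modules} (hF : Coh.IsCoh F) (d : ℤ) :
    chiP ((Coh.push i).obj F) d = Curv2.euler k X (Pic13.twistOn k i F d) := by
  obtain ⟨e⟩ := nonempty_push_twist i F d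
  rw [chiP_eq, Groth.L03.Euler.euler_iso (k := k) e]
  refine finsum_congr fun q => ?_
  obtain ⟨φ⟩ := nonempty_HH_twist i hi hF d q
  rw [φ.finrank_eq]

/-- Quotients of `O_X^N` with given Hilbert polynomial and their kernels are uniformly regular. -/
theorem exists_uniform_regular (N : ℕ) (P : Polynomial ℚ) : ∃ l₀ : ℕ, ∀ (F : X.Modules)
    (q : FlatMod.freeMod X N ⟶ F), Coh.IsCoh F → Epi q →
      (∀ j : ℕ, (Curv2.euler k X (Pic13.twistOn k i F (j : ℤ)) : ℚ) = P.eval (j : ℚ)) →
        Coh.IsCoh (kernel q) ∧ Regular ((Coh.push i).obj F) (l₀ : ℤ) ∧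
          Regular ((Coh.push i).obj (kernel q)) (l₀ : ℤ) := by
  haveI := isProper_over_proj (k := k) (n := n)
  haveI := isLocallyNoetherian_closed i
  let FM := FlatMod.freeMod (CohB1.ProjSpace n k) N
  haveI : (Scheme.Modules.pullback i).IsLeftAdjoint :=
    (Scheme.Modules.pullbackPushforwardAdjunction i).isLeftAdjoint
  haveI : (Coh.push i).IsRightAdjoint := (Scheme.Modules.pullbackPushforwardAdjunction i).isRightAdjoint
  let e : (Scheme.Modules.pullback i).obj FM ≅ FlatMod.freeMod X N :=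
    PreservesCoproduct.iso (Scheme.Modules.pullback i) (fun _ : Fin N => Coh.structureModule _) ≪≫
      Sigma.mapIso fun _ => Groth.L29.LocFree.pullbackUnitIso i
  let η : FM ⟶ (Coh.push i).obj (FlatMod.freeMod X N) :=
    (Scheme.Modules.pullbackPushforwardAdjunction i).unit.app FM ≫ (Coh.push i).map e.hom
  haveI h1 := epi_unit i FM
  haveI : Epi η := epi_comp' h1 inferInstance
  have hFX : Coh.IsCoh (FlatMod.freeMod X N) := Groth.L16.CohSupport.isCoh_of_iso e
    (Groth.L16.AffineBC.isCoh_pullback i (isCoh_freeMod N))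
  have hK : Coh.IsCoh (kernel η) := (CohKernel.isCoh_kernel_cokernel (isCoh_freeMod N) (isCoh_push_closed i hFX) η).1
  obtain ⟨m₀, hm₀⟩ := exists_regular hK
  obtain ⟨M, hM⟩ := exists_kernel_bound.{u} n N P
  refine ⟨max M m₀, fun F q hF hq hP => ?_⟩
  haveI := hq
  let g := (Coh.push i).map q
  haveI : Epi g := epi_map_push i q
  haveI : Epi (η ≫ g) := inferInstance
  have hF' := isCoh_push_closed i hF
  have hH : Regular (kernel (η ≫ g)) ((max M m₀ : ℕ) : ℤ) :=
    (hM k _ (η ≫ g) hF' inferInstance fun j => by rw [chiP_push i hi hF]; exact hP j).of_le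
      (by omega)
  have hA : Regular FM ((max M m₀ : ℕ) : ℤ) :=
    regular_iso (freeModIso k n N).symm (regular_sigma_twist N (by omega))
  obtain ⟨hD, hG⟩ := regular_comp η g hA hH (hm₀.of_le (by omega))
  exact ⟨(CohKernel.isCoh_kernel_cokernel hFX hF q).1, hD, regular_iso (PreservesKernel.iso (Coh.push i) q).symm hG⟩

end Groth.L22.Reg
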