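import Groth.Agent.L22.Reg.Gg
import Groth.Agent.L16.ProjSpace.TwistMul
import Groth.Agent.L16.ProjSpace.Ample
import Groth.Agent.L16.ProjSpace.CohTwist
import Groth.Agent.L03.Euler.Section

/-!
Castelnuovo–Mumford regularity on projective space.
-/

set_option autoImplicit false
set_option backward.isDefEq.respectTransparency false
set_option linter.style.haveILetI false
universe u

open CategoryTheory CategoryTheory.Limits AlgebraicGeometry TopologicalSpace Opposite

noncomputable section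

namespace Groth.L22.Reg

open Groth.L00.Tensor (tensorMap tensorIso tensorAssoc tensorComm tensorUnitLeft tensorUnitRight tensorRightF)
open Groth.L16

variable {n : ℕ} {R : Type u} [CommRing R]

variable (n R) in
theorem hcov (x : CohB1.ProjSpace n R) :
    ∃ f : CohB1.polyGrading n R 1, x ∈ Proj.basicOpen (CohB1.polyGrading n R) f.1 := by
  obtain ⟨i, hi⟩ := ProjSpace.exists_mem_basicOpen_X n R x
  exact ⟨⟨_, ProjSpace.X_mem n R i⟩, hi⟩

/-- The twisting sheaf. -/
abbrev O' (n : ℕ) (R : Type u) [CommRing R] (d : ℤ) : (CohB1.ProjSpace n R).Modules :=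
  Twist.twistProjSpace n R d

/-- The twist of a module. -/
abbrev tw' (F : (CohB1.ProjSpace n R).Modules) (d : ℤ) : (CohB1.ProjSpace n R).Modules :=
  CohB1.tensorMod F (Twist.twistProjSpace n R d)

theorem nonempty_O_add {a b c : ℤ} (h : a + b = c) :
    Nonempty (CohB1.tensorMod (O' n R a) (O' n R b) ≅ O' n R c) := by
  subst h
  exact ProjTwist.nonempty_tensor_twist_iso_one (CohB1.polyGrading n R) (hcov n R) a b

variable (n R) in
theorem nonempty_O_zero : Nonempty (O' n R 0 ≅ Coh.structureModule (CohB1.ProjSpace n R)) :=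
  ProjTwist.nonempty_twist_zero_iso _

theorem nonempty_O_pow : ∀ j : ℕ, Nonempty (CohB1.tensorPow (O' n R (-1)) j ≅ O' n R (-(j : ℤ)))
  | 0 => by
    obtain ⟨e⟩ := nonempty_O_zero n R
    exact ⟨e.symm⟩
  | j + 1 => by
    obtain ⟨e⟩ := nonempty_O_pow j
    obtain ⟨e'⟩ := nonempty_O_add (n := n) (R := R) (show -(j : ℤ) + -1 = -((j + 1 : ℕ) : ℤ) by omega)
    exact ⟨tensorIso e (Iso.refl _) ≪≫ e'⟩

theorem nonempty_tw_tw (F : (CohB1.ProjSpace n R).Modules) {a b c : ℤ} (h : a + b = c) :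
    Nonempty (tw' (tw' F a) b ≅ tw' F c) := by
  obtain ⟨e⟩ := nonempty_O_add (n := n) (R := R) h
  exact ⟨tensorAssoc _ _ _ ≪≫ tensorIso (Iso.refl F) e⟩

theorem nonempty_tw_pow (F : (CohB1.ProjSpace n R).Modules) {a c : ℤ} (j : ℕ) (h : a - j = c) :
    Nonempty (CohB1.tensorMod (tw' F a) (CohB1.tensorPow (O' n R (-1)) j) ≅ tw' F c) := by
  obtain ⟨e⟩ := nonempty_O_pow (n := n) (R := R) j
  obtain ⟨e'⟩ := nonempty_tw_tw F (show a + -(j : ℤ) = c by omega)
  exact ⟨tensorIso (Iso.refl _) e ≪≫ e'⟩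

theorem nonempty_tw_zero (F : (CohB1.ProjSpace n R).Modules) : Nonempty (tw' F 0 ≅ F) := by
  obtain ⟨e⟩ := nonempty_O_zero n R
  exact ⟨tensorIso (Iso.refl F) e ≪≫ tensorUnitRight F⟩

theorem subsingleton_congr_iso {X : Scheme.{u}} {A B : X.Modules} (e : A ≅ B) (q : ℕ) :
    Subsingleton (Coh.HH X A q) ↔ Subsingleton (Coh.HH X B q) :=
  ⟨subsingleton_iso e q, subsingleton_iso e.symm q⟩

theorem isQCoh_tw (F : (CohB1.ProjSpace n R).Modules) [Coh.IsQCoh F] (d : ℤ) : Coh.IsQCoh (tw' F d) := by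
  haveI : Coh.IsQCoh (O' n R d) := ProjTwist.isQCoh_twist (CohB1.polyGrading n R) d
  exact Groth.L00.Tensor.isQCoh_tensorMod F (O' n R d)

/-- The maps `O(-1) ⟶ O` of the coordinates. -/
def sigma (n : ℕ) (R : Type u) [CommRing R] (i : Fin (n + 1)) :
    O' n R (-1) ⟶ Coh.structureModule (CohB1.ProjSpace n R) :=
  (tensorUnitLeft (O' n R (-1))).inv ≫
    tensorMap (ProjTwist.sect (CohB1.polyGrading n R)
      ⟨MvPolynomial.X i, ProjSpace.X_mem n R i⟩) (𝟙 (O' n R (-1))) ≫
    ((nonempty_O_add (n := n) (R := R) (show ((1 : ℕ) : ℤ) + -1 = 0 by norm_num)).some ≪≫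
      (nonempty_O_zero n R).some).hom

/-- The list of the coordinates. -/
def sigmas (n : ℕ) (R : Type u) [CommRing R] :
    List (O' n R (-1) ⟶ Coh.structureModule (CohB1.ProjSpace n R)) :=
  List.ofFn (sigma n R)

theorem bijective_sm_of_mem_genLocus {X : Scheme.{u}} {N : X.Modules} (s : Coh.structureModule X ⟶ N) {x : X}
    (hx : x ∈ CohB1.genLocus N s) : Function.Bijective (sm x s) := by
  have hb := Groth.L03.Euler.bijective_toSpanSingleton_germ (Groth.L18.GenLoc.isFrame_genLocus s) hx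
  rw [Groth.L20.ModStalk.germ_rs] at hb
  obtain ⟨g, hg, hgs⟩ := Groth.L03.Euler.stalk_section s x
  refine (Function.Bijective.of_comp_iff _ hg).1 ?_
  have e := congrArg DFunLike.coe hgs
  rw [LinearMap.coe_comp] at e
  exact (congrArg Function.Bijective e).mpr hb

theorem generates_sigmas : Generates (sigmas n R) := by
  intro x
  obtain ⟨i, hi⟩ := ProjSpace.exists_mem_basicOpen_X n R x
  refine ⟨sigma n R i, List.mem_ofFn.2 ⟨i, rfl⟩, ?_⟩
  have hs := bijective_sm_of_mem_genLocus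
    (ProjTwist.sect (CohB1.polyGrading n R) ⟨MvPolynomial.X i, ProjSpace.X_mem n R i⟩) (x := x)
    (by rw [ProjTwist.genLocus_sect _ (hcov n R)]; exact hi)
  obtain ⟨θ, hθ, -, hnat⟩ := exists_theta x
    (ProjTwist.isInvertible_twistProjSpace n R (-1))
  have hT : Function.Bijective (sm x (tensorMap
      (ProjTwist.sect (CohB1.polyGrading n R) ⟨MvPolynomial.X i, ProjSpace.X_mem n R i⟩) (𝟙 (O' n R (-1))))) := by
    refine (Function.Bijective.of_comp_iff _ (hθ _)).1 ?_
    have h := (funext (hnat _ _ (ProjTwist.sect (CohB1.polyGrading n R) ⟨MvPolynomial.X i, ProjSpace.X_mem n R i⟩)))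
    exact (congrArg Function.Bijective (a₁ := _ ∘ _) h).mpr ((hθ _).comp hs)
  have hiso : ∀ {A B : (CohB1.ProjSpace n R).Modules} (f : A ⟶ B) [IsIso f], Function.Bijective (sm x f) :=
    fun f _ => (ConcreteCategory.isIso_iff_bijective _).1 inferInstance
  have h' := ((hiso ((nonempty_O_add (n := n) (R := R) (show ((1 : ℕ) : ℤ) + -1 = 0 by norm_num)).some ≪≫
      (nonempty_O_zero n R).some).hom).comp hT).comp (hiso (tensorUnitLeft (O' n R (-1))).inv)
  have e : ∀ v, sm x (sigma n R i) v = _ := fun v => by rw [sigma, sm_comp, sm_comp]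
  exact (congrArg Function.Bijective (funext e)).mpr h'

/-- Regularity: `H^q(F(m - q)) = 0` for `q ≥ 1`. -/
def Regular (F : (CohB1.ProjSpace n R).Modules) (m : ℤ) : Prop :=
  ∀ q : ℕ, 1 ≤ q → Subsingleton (Coh.HH (CohB1.ProjSpace n R) (tw' F (m - q)) q)

theorem regular_of_le_n {F : (CohB1.ProjSpace n R).Modules} [Coh.IsQCoh F] {m : ℤ}
    (h : ∀ q : ℕ, 1 ≤ q → q ≤ n → Subsingleton (Coh.HH (CohB1.ProjSpace n R) (tw' F (m - q)) q)) :
    Regular F m := fun q hq => by
  rcases le_or_gt q n with hqn | hqn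
  · exact h q hq hqn
  · haveI := isQCoh_tw F (m - q)
    exact ProjSpace.subsingleton_HH_of_lt n R _ q hqn

theorem regular_iso {F G : (CohB1.ProjSpace n R).Modules} (e : F ≅ G) {m : ℤ} (h : Regular F m) : Regular G m :=
  fun q hq => (subsingleton_congr_iso (tensorIso e (Iso.refl _)) q).1 (h q hq)

theorem Regular.succ {F : (CohB1.ProjSpace n R).Modules} {m : ℤ} (h : Regular F m) : Regular F (m + 1) :=
  fun q hq => subsingleton_of_twists (ProjTwist.isInvertible_twistProjSpace n R (-1)) generates_sigmas fun j => by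
    obtain ⟨e⟩ := nonempty_tw_pow F (j + 1) (show m + 1 - (q : ℤ) - ((j + 1 : ℕ) : ℤ) = m - ((q + j : ℕ) : ℤ) by omega)
    exact subsingleton_iso e.symm _ (h (q + j) (by omega))

theorem Regular.of_le {F : (CohB1.ProjSpace n R).Modules} {m m' : ℤ} (h : Regular F m) (hm : m ≤ m') :
    Regular F m' := by
  obtain ⟨t, rfl⟩ : ∃ t : ℕ, m' = m + t := ⟨(m' - m).toNat, by omega⟩
  induction t with
  | zero => simpa using h
  | succ t ih =>
    have h' := (ih (by omega)).succ
    rwa [show m + (t : ℤ) + 1 = m + ((t + 1 : ℕ) : ℤ) by omega] at h'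

theorem Regular.subsingleton {F : (CohB1.ProjSpace n R).Modules} {m : ℤ} (h : Regular F m) {q : ℕ} (hq : 1 ≤ q)
    {r : ℤ} (hr : m - q ≤ r) : Subsingleton (Coh.HH (CohB1.ProjSpace n R) (tw' F r) q) := by
  have h' := h.of_le (show m ≤ r + q by omega) q hq
  rwa [add_sub_cancel_right] at h'

theorem Regular.surjective_one {F : (CohB1.ProjSpace n R).Modules} {m d : ℤ} (h : Regular F m) (hd : m ≤ d) :
    Function.Surjective ((toSheafify (Opens.grothendieckTopology (CohB1.ProjSpace n R))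
      (CohB1.tensorPre (tw' F d) (O' n R 1)).presheaf).app (op ⊤)) := by
  refine surjective_mult (ProjTwist.isInvertible_twistProjSpace n R (-1)) generates_sigmas
    ((nonempty_O_add (n := n) (R := R) (show (1 : ℤ) + -1 = 0 by norm_num)).some ≪≫ (nonempty_O_zero n R).some)
    (tw' F d) fun j => ?_
  obtain ⟨e₁⟩ := nonempty_tw_tw F (show d + 1 = d + 1 from rfl)
  obtain ⟨e₂⟩ := nonempty_tw_pow F (j + 2) (show d + 1 - ((j + 2 : ℕ) : ℤ) = d - ((0 + (j + 1) : ℕ) : ℤ) by omega)
  exact subsingleton_iso (tensorIso e₁ (Iso.refl _) ≪≫ e₂).symm _ (h.subsingleton (by omega) (by omega))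

end Groth.L22.Reg
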