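import Groth.Agent.L22.Reg.PnGen
import Groth.Agent.L22.Big.Support

/-!
Regularity in short exact sequences.
-/

set_option autoImplicit false
set_option backward.isDefEq.respectTransparency false
set_option linter.style.haveILetI false
universe u

open CategoryTheory CategoryTheory.Limits AlgebraicGeometry TopologicalSpace Opposite

noncomputable section

namespace Groth.L22.Reg

open Groth.L00.Tensor (tensorMap tensorIso tensorRightF)
open Groth.L16
open Groth.L16.CohLinear (hmap exact_hmap_hmap exact_hmap_delta exact_delta_hmap)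

variable {n : ℕ} {R : Type u} [CommRing R] {S : ShortComplex (CohB1.ProjSpace n R).Modules}

theorem shortExact_tw (hS : S.ShortExact) (d : ℤ) : (S.map (tensorRightF (O' n R d))).ShortExact :=
  Groth.L03.Euler.shortExact_tensor (ProjTwist.isInvertible_twistProjSpace n R d) hS

theorem Regular.of_outer {m : ℤ} (hS : S.ShortExact) (h₁ : Regular S.X₁ m) (h₃ : Regular S.X₃ m) :
    Regular S.X₂ m := fun q hq =>
  subsingleton_of_exact (exact_hmap_hmap (shortExact_tw hS (m - q)) q) (h₁ q hq) (h₃ q hq) (map_zero _)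

theorem Regular.of_middle_right {m : ℤ} (hS : S.ShortExact) (h₂ : Regular S.X₂ m) (h₁ : Regular S.X₁ (m + 1)) :
    Regular S.X₃ m := fun q hq => by
  refine subsingleton_of_exact (exact_hmap_delta (shortExact_tw hS (m - q)) q) (h₂ q hq) ?_ (map_zero _)
  have h := h₁ (q + 1) (by omega)
  rwa [show m + 1 - ((q + 1 : ℕ) : ℤ) = m - (q : ℤ) by omega] at h

/-- `F(a)` is `m`-regular iff `F` is `(a + m)`-regular. -/
theorem regular_tw {F : (CohB1.ProjSpace n R).Modules} {a m : ℤ} :
    Regular (tw' F a) m ↔ Regular F (a + m) :=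
  forall₂_congr fun q _ => by
    obtain ⟨e⟩ := nonempty_tw_tw F (show a + (m - (q : ℤ)) = a + m - q by omega)
    exact subsingleton_congr_iso e q

theorem Regular.subsingleton_mid {m : ℤ} (hS : S.ShortExact) {q : ℕ}
    (h₁ : Subsingleton (Coh.HH _ (tw' S.X₁ m) q)) (h₃ : Subsingleton (Coh.HH _ (tw' S.X₃ m) q)) :
    Subsingleton (Coh.HH _ (tw' S.X₂ m) q) :=
  subsingleton_of_exact (exact_hmap_hmap (shortExact_tw hS m) q) h₁ h₃ (map_zero _)

section Field

variable {k : Type u} [Field k]

theorem subsingleton_tw_of_support_le_zero {C : (CohB1.ProjSpace n k).Modules} (hC : Coh.IsCoh C)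
    (hs : topologicalKrullDim (CohB1.support C) ≤ 0) (d : ℤ) {q : ℕ} (hq : 1 ≤ q) :
    Subsingleton (Coh.HH _ (tw' C d) q) := by
  haveI : IsProper (CohB1.ProjSpace n k ↘ Spec (CommRingCat.of k)) :=
    inferInstanceAs (IsProper (CohB1.ProjSpace.toSpec n k))
  have hi := ProjTwist.isInvertible_twistProjSpace n k d
  refine Groth.L22.Big.subsingleton_HH_of_support k (d := 0) (Groth.L03.Euler.isCoh_tensor hi hC) ?_ (by omega)
  rw [Groth.L03.Euler.support_tensor hi]
  exact hs

end Field

end Groth.L22.Reg
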