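import Groth.Agent.L22.Reg.Base
import Groth.Agent.S4466

/-!
The Euler characteristic of free modules and the existence of the uniform bound.
-/

set_option autoImplicit false
set_option backward.isDefEq.respectTransparency false
set_option linter.style.haveILetI false
universe u

open CategoryTheory CategoryTheory.Limits AlgebraicGeometry TopologicalSpace Opposite

noncomputable section

namespace Groth.L22.Reg

open Groth.L00.Tensor (tensorMap tensorRightF tensorIso)
open Groth.L16
open Groth.L16.CohLinear (hmap hmap_comp hmap_id overLin)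

variable {k : Type u} [Field k] {n : ℕ}

theorem finrank_HH_sigma {p : ℕ} (M : Fin p → (CohB1.ProjSpace n k).Modules) (q : ℕ)
    [∀ j, Module.Finite k (Coh.HH (CohB1.ProjSpace n k) (M j) q)] :
    Module.finrank k (Coh.HH (CohB1.ProjSpace n k) (∐ M) q) =
      ∑ j, Module.finrank k (Coh.HH (CohB1.ProjSpace n k) (M j) q) := by
  classical
  let f : (∀ j, Coh.HH (CohB1.ProjSpace n k) (M j) q) →ₗ[k] Coh.HH (CohB1.ProjSpace n k) (∐ M) q :=
    ∑ j, (overLin k (hmap (Sigma.ι M j) q)).comp (LinearMap.proj j)
  let pr : ∀ j, ∐ M ⟶ M j := fun j => Sigma.desc fun i =>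
    if h : i = j then eqToHom (congrArg M h) else 0
  have hid : 𝟙 (∐ M) = ∑ j, pr j ≫ Sigma.ι M j := by
    refine Sigma.hom_ext _ _ fun i => ?_
    rw [Category.comp_id, Preadditive.comp_sum, Finset.sum_eq_single i]
    · simp [pr]
    · intro j _ hj
      simp [pr, Ne.symm hj]
    · simp
  have hf : ∀ v, f v = ∑ j, hmap (Sigma.ι M j) q (v j) := fun v => by
    simp only [f, LinearMap.sum_apply, LinearMap.comp_apply, LinearMap.proj_apply]
    rfl
  have hsurj : Function.Surjective f := fun x => by
    refine ⟨fun j => hmap (pr j) q x, ?_⟩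
    have h2 : hmap (𝟙 (∐ M)) q x = ∑ j, hmap (pr j ≫ Sigma.ι M j) q x := by
      rw [hid]
      change Sheaf.H.map (CohLinear.tm (∑ j, pr j ≫ Sigma.ι M j)) q x = _
      rw [CohLinear.tm, Functor.map_sum, CohLinear.hMap_sum]
      rfl
    rw [hmap_id] at h2
    rw [hf]
    refine Eq.trans ?_ h2.symm
    simp only [hmap_comp]
  have hinj : Function.Injective f := by
    rw [injective_iff_map_eq_zero]
    intro v hv
    rw [hf] at hv
    funext i
    have h := congrArg (hmap (pr i) q) hv
    rw [map_sum, map_zero, Finset.sum_eq_single i] at h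
    · rw [← hmap_comp] at h
      simp only [pr, Sigma.ι_desc, dite_true, eqToHom_refl, hmap_id] at h
      exact h
    · intro j _ hj
      rw [← hmap_comp]
      simp only [pr, Sigma.ι_desc, dif_neg hj]
      change Sheaf.H.map (CohLinear.tm 0) q (v j) = 0
      rw [CohLinear.tm, Functor.map_zero]
      change ((Sheaf.functorH _ q).map (0 : Coh.toAb (M j) ⟶ Coh.toAb (M i))).hom (v j) = 0
      rw [Functor.map_zero]; rfl
    · simp
  rw [← (LinearEquiv.ofBijective f ⟨hinj, hsurj⟩).finrank_eq, Module.finrank_pi_fintype]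

theorem euler_O (hn : 0 < n) (t : ℤ) :
    Curv2.euler k (CohB1.ProjSpace n k) (O' n k t) = Ring.choose (t + n) n := by
  haveI := isProper_over_proj (k := k) (n := n)
  rw [Groth.L03.Euler.euler_eq_sum (k := k) (N := n + 1) fun q hq =>
    ProjSpace.subsingleton_HH_twist n k t q (by omega) (by omega)]
  exact Groth.Agent.S4466.result k n hn t

theorem chiP_freeO (hn : 0 < n) (p : ℕ) (t : ℤ) :
    chiP (freeO n k p) t = (p : ℤ) * Ring.choose (t + n) n := by
  haveI := isProper_over_proj (k := k) (n := n)
  obtain ⟨e⟩ := nonempty_tensor_sigma (n := n) (fun _ : Fin p => O' n k 0) (O' n k t)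
  obtain ⟨a⟩ := nonempty_O_add (n := n) (R := k) (show (0 : ℤ) + t = t by omega)
  let e' : (tensorRightF (O' n k t)).obj (freeO n k p) ≅ ∐ fun _ : Fin p => O' n k t :=
    e ≪≫ Sigma.mapIso fun _ => a
  rw [chiP_def, Groth.L03.Euler.euler_iso e', ← euler_O (k := k) hn t,
    Groth.L03.Euler.euler_eq_sum (k := k) (N := n + 1) fun q hq =>
      ProjSpace.subsingleton_sigma _ q fun _ => ProjSpace.subsingleton_HH_twist n k t q (by omega) (by omega),
    Groth.L03.Euler.euler_eq_sum (k := k) (N := n + 1) fun q hq =>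
      ProjSpace.subsingleton_HH_twist n k t q (by omega) (by omega), Finset.mul_sum]
  refine Finset.sum_congr rfl fun q _ => ?_
  haveI : ∀ _ : Fin p, Module.Finite k (Coh.HH (CohB1.ProjSpace n k) (O' n k t) q) := fun _ =>
    Groth.L16.ProperFinite.finite_HH k
      (Groth.L16.ProperFinite.isCoh_of_isInvertible (ProjTwist.isInvertible_twistProjSpace n k t)) q
  rw [finrank_HH_sigma]
  simp only [Finset.sum_const, Finset.card_univ, Fintype.card_fin, smul_eq_mul]
  push_cast
  ring

/-- Some bound always exists. -/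
theorem exists_good (b : ℤ → ℤ) : ∀ (d : ℕ) (f : ℤ → ℤ), ∃ M, Good.{u} d b f M
  | 0, f => ⟨0, good_zero b f 0⟩
  | d + 1, f => by
    obtain ⟨M, hM⟩ := exists_good b d fun t => f t - f (t - 1)
    exact ⟨_, good_succ (c := max 0 (b (max M 1 - 1) - f (max M 1 - 1))) hM (le_max_left M 1) (le_max_right M 1)
      (le_max_left _ _) (le_max_right _ _)⟩

end Groth.L22.Reg
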