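import Groth.Agent.L22.Reg.Chase
import Groth.Agent.L29.DCoh.TensorAssoc
import Groth.Agent.L21.RR.Sections
import Groth.Agent.L20.ResDescent
import Groth.Agent.L18.RelAmpleCrit

/-!
Surjectivity of multiplication of global sections.
-/

set_option autoImplicit false
set_option backward.isDefEq.respectTransparency false
set_option linter.style.haveILetI false
universe u

open CategoryTheory CategoryTheory.Limits AlgebraicGeometry TopologicalSpace Opposite MonoidalCategory

noncomputable section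

namespace Groth.L22.Reg

open Groth.L00.Tensor (tensorMap tensorMap_comp tensorIso tensorAssoc tensorRightF pre PX)
open Groth.L16.CohLinear (hmap hmap_comp hmap_id)
open Groth.L21.RR (e0 e0_hmap oneSec app_homOfSection_one)
open Groth.L18.GenLoc (tens)

variable {X : Scheme.{u}}

/-- The value of the left unitor on an elementary tensor. -/
theorem tensorUnitLeft_tens (M : X.Modules) (U : X.Opens) (r : Γ(X, U)) (m : Γ(M, U)) :
    (Groth.L00.Tensor.tensorUnitLeft M).hom.app U (tens (Coh.structureModule X) M U r m) = r • m := by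
  have hn : (λ_ (pre M)).hom ≫ Groth.L00.Tensor.unit (pre M) =
      Groth.L00.Tensor.unit (𝟙_ (PX X) ⊗ pre M) ≫
        (Groth.L00.Tensor.preF X).map ((Groth.L00.Tensor.shf X).map (λ_ (pre M)).hom) :=
    (Groth.L17.ClosedPush.shAdj X).unit.naturality (λ_ (pre M)).hom
  refine (congrArg ((Groth.L00.Tensor.counitIso M).hom.app U)
    (congrArg (fun k : 𝟙_ (PX X) ⊗ pre M ⟶ pre ((Groth.L00.Tensor.shf X).obj (pre M)) =>
      k.app (op U) ((r : (pre (Coh.structureModule X)).obj (op U)) ⊗ₜ[X.sheaf.obj.obj (op U)]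
        (m : (pre M).obj (op U)))) hn).symm).trans ?_
  exact Groth.L20.ResDescent.counit_app_unit M U _

/-- The image of the products of global sections. -/
def prodRange (G N : X.Modules) : AddSubgroup Γ(CohB1.tensorMod G N, ⊤) :=
  AddMonoidHom.range ((toSheafify (Opens.grothendieckTopology X) (CohB1.tensorPre G N).presheaf).app (op ⊤)).hom

theorem tens_mem_prodRange (G N : X.Modules) (g : Γ(G, ⊤)) (t : Γ(N, ⊤)) :
    tens G N ⊤ g t ∈ prodRange G N :=
  ⟨(show (pre G).obj (op ⊤) from g) ⊗ₜ[X.sheaf.obj.obj (op ⊤)] (show (pre N).obj (op ⊤) from t), rfl⟩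

variable {L N : X.Modules} (e : CohB1.tensorMod N L ≅ Coh.structureModule X)

/-- `(G ⊗ N) ⊗ L ≅ G`. -/
def cI (G : X.Modules) : (tensorRightF L).obj (CohB1.tensorMod G N) ≅ G :=
  tensorAssoc G N L ≪≫ tensorIso (Iso.refl G) e ≪≫ Groth.L00.Tensor.tensorUnitRight G

theorem cI_natural {G G' : X.Modules} (g : G ⟶ G') :
    (tensorRightF L).map (tensorMap g (𝟙 N)) ≫ (cI e G').hom = (cI e G).hom ≫ g := by
  have h2 : tensorMap g (𝟙 (CohB1.tensorMod N L)) ≫ tensorMap (𝟙 G') e.hom =
      tensorMap (𝟙 G) e.hom ≫ tensorMap g (𝟙 (Coh.structureModule X)) := by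
    rw [← tensorMap_comp, ← tensorMap_comp, Category.id_comp, Category.comp_id, Category.id_comp,
      Category.comp_id]
  show tensorMap (tensorMap g (𝟙 N)) (𝟙 L) ≫ (tensorAssoc G' N L).hom ≫ tensorMap (𝟙 G') e.hom ≫ _ =
    ((tensorAssoc G N L).hom ≫ tensorMap (𝟙 G) e.hom ≫ _) ≫ g
  rw [reassoc_of% Groth.L29.DC.Assoc.assoc_natural g (𝟙 N) (𝟙 L), Groth.L00.Tensor.tensorMap_id,
    reassoc_of% h2, tensorUnitRight_natural, Category.assoc, Category.assoc]

/-- The multiplication `G ⟶ G ⊗ N` induced by `σ`. -/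
def psi (σ : L ⟶ Coh.structureModule X) (G : X.Modules) : G ⟶ CohB1.tensorMod G N :=
  (cI e G).inv ≫ mu σ (CohB1.tensorMod G N)

theorem psi_natural (σ : L ⟶ Coh.structureModule X) {G G' : X.Modules} (g : G ⟶ G') :
    g ≫ psi e σ G' = psi e σ G ≫ tensorMap g (𝟙 N) := by
  rw [psi, psi, Category.assoc, ← mu_natural, ← cancel_epi (cI e G).hom, Iso.hom_inv_id_assoc,
    ← reassoc_of% (cI_natural e g), Iso.hom_inv_id_assoc]

theorem psi_mem (σ : L ⟶ Coh.structureModule X) (G : X.Modules) (s : Γ(G, ⊤)) :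
    (psi e σ G).app ⊤ s ∈ prodRange G N := by
  let φ := Groth.L16.homOfSection G s
  let w := (psi e σ (Coh.structureModule X)).app ⊤ (oneSec X)
  let t := (Groth.L00.Tensor.tensorUnitLeft N).hom.app ⊤ w
  have hw : w = tens (Coh.structureModule X) N ⊤ (oneSec X) t := by
    refine ((ConcreteCategory.isIso_iff_bijective _).1
      (Scheme.Modules.Hom.isIso_iff_isIso_app.1
        (inferInstance : IsIso (Groth.L00.Tensor.tensorUnitLeft N).hom) ⊤)).1 ?_
    rw [tensorUnitLeft_tens]
    exact (one_smul _ t).symm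
  have h : (psi e σ G).app ⊤ s = tens G N ⊤ s t := by
    have h1 := congrArg (fun f => f.app ⊤ (oneSec X)) (psi_natural e σ φ)
    change (psi e σ G).app ⊤ (φ.app ⊤ (oneSec X)) = (tensorMap φ (𝟙 N)).app ⊤ w at h1
    rw [app_homOfSection_one] at h1
    rw [h1, hw, Groth.L18.Ample.tensorMap_tens, app_homOfSection_one]
    rfl
  rw [h]
  exact tens_mem_prodRange G N s t

/-- The classes of the products of global sections. -/
def prodH0 (G N : X.Modules) : AddSubgroup (Coh.HH X (CohB1.tensorMod G N) 0) :=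
  (prodRange G N).comap (e0 (CohB1.tensorMod G N)).toAddMonoidHom

theorem mem_prodH0 {G N : X.Modules} (z : Coh.HH X (CohB1.tensorMod G N) 0) :
    z ∈ prodH0 G N ↔ e0 (CohB1.tensorMod G N) z ∈ prodRange G N := Iff.rfl

theorem mu_mem_prodH0 (e : CohB1.tensorMod N L ≅ Coh.structureModule X) (σ : L ⟶ Coh.structureModule X)
    (G : X.Modules) (z : Coh.HH X ((tensorRightF L).obj (CohB1.tensorMod G N)) 0) :
    hmap (mu σ (CohB1.tensorMod G N)) 0 z ∈ prodH0 G N := by
  have hf : mu σ (CohB1.tensorMod G N) = (cI e G).hom ≫ psi e σ G := by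
    rw [psi, Iso.hom_inv_id_assoc]
  rw [mem_prodH0, hf, hmap_comp, e0_hmap]
  exact psi_mem e σ G _

/-- Castelnuovo–Mumford: multiplication of global sections is surjective. -/
theorem surjective_mult (hL : PicF.IsInvertible L) {σs : List (L ⟶ Coh.structureModule X)} (hσ : Generates σs)
    (e : CohB1.tensorMod N L ≅ Coh.structureModule X) (G : X.Modules)
    (h : ∀ j, Subsingleton (Coh.HH X (CohB1.tensorMod (CohB1.tensorMod G N) (CohB1.tensorPow L (j + 2))) (0 + (j + 1)))) :
    Function.Surjective ((toSheafify (Opens.grothendieckTopology X) (CohB1.tensorPre G N).presheaf).app (op ⊤)) := by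
  intro y
  obtain ⟨z, rfl⟩ := (e0 (CohB1.tensorMod G N)).surjective y
  exact (mem_prodH0 z).1
    (mem_of_twists hL hσ h (prodH0 G N) (fun σ _ w => mu_mem_prodH0 e σ G w) z)

end Groth.L22.Reg
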