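import Groth.Agent.L22.Reg.Lin

/-!
Mumford's descent along a hyperplane sequence `0 ⟶ F(-1) ⟶ F ⟶ G ⟶ 0`.
-/

set_option autoImplicit false
set_option backward.isDefEq.respectTransparency false
set_option linter.style.haveILetI false
universe u

open CategoryTheory CategoryTheory.Limits AlgebraicGeometry TopologicalSpace Opposite

noncomputable section

namespace Groth.L22.Reg

open Groth.L00.Tensor (tensorMap tensorMap_comp tensorIso tensorRightF tensorAssoc)
open Groth.L16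
open Groth.L16.CohLinear (hmap hmap_comp hmap_id overLin exact_hmap_hmap exact_hmap_delta exact_delta_hmap)
open Groth.L21.RR (e0 e0_hmap)
open Groth.L18.GenLoc (tens)

theorem surjective_app_tensor {X : Scheme.{u}} {A B N : X.Modules} (f : A ⟶ B)
    (hf : Function.Surjective (f.app ⊤))
    (hs : Function.Surjective
      ((toSheafify (Opens.grothendieckTopology X) (CohB1.tensorPre B N).presheaf).app (op ⊤))) :
    Function.Surjective ((tensorMap f (𝟙 N)).app ⊤) := by
  intro y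
  obtain ⟨p, rfl⟩ := hs y
  change ∃ w, (tensorMap f (𝟙 N)).app ⊤ w =
    ((toSheafify (Opens.grothendieckTopology X) (CohB1.tensorPre B N).presheaf).app (op ⊤)) p
  induction p using TensorProduct.induction_on with
  | zero => exact ⟨0, (map_zero _).trans (map_zero _).symm⟩
  | tmul g t =>
    obtain ⟨g', hg'⟩ := hf g
    refine ⟨tens _ N ⊤ g' t, ?_⟩
    rw [Groth.L18.Ample.tensorMap_tens, hg']
    rfl
  | add a b ha hb =>
    obtain ⟨wa, hwa⟩ := ha
    obtain ⟨wb, hwb⟩ := hb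
    exact ⟨wa + wb, by rw [map_add, hwa, hwb]; exact (map_add _ _ _).symm⟩

theorem surjective_hmap_zero_iff {X : Scheme.{u}} {A B : X.Modules} (f : A ⟶ B) :
    Function.Surjective (hmap f 0) ↔ Function.Surjective (f.app ⊤) := by
  have h : (f.app ⊤ : _ → _) ∘ e0 A = e0 B ∘ hmap f 0 := funext fun z => (e0_hmap f z).symm
  rw [← Function.Surjective.of_comp_iff (f.app ⊤ : _ → _) (e0 A).surjective, h,
    Function.Surjective.of_comp_iff' (e0 B).bijective]

variable {k : Type u} [Field k] {n : ℕ} {F : (CohB1.ProjSpace n k).Modules} (hF : Coh.IsCoh F)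
  (ι : CohB1.tensorMod F (Twist.twistProjSpace n k (-1)) ⟶ F) [Mono ι]

/-- The hyperplane sequence. -/
def hypSeq : ShortComplex (CohB1.ProjSpace n k).Modules := ShortComplex.mk ι (cokernel.π ι) (cokernel.condition ι)

theorem hypSeq_shortExact : (hypSeq ι).ShortExact :=
  { exact := ShortComplex.exact_cokernel ι
    mono_f := inferInstanceAs (Mono ι)
    epi_g := inferInstanceAs (Epi (cokernel.π ι)) }

/-- The twisted hyperplane sequence. -/
def hypTw (j : ℤ) : ShortComplex (CohB1.ProjSpace n k).Modules := (hypSeq ι).map (tensorRightF (O' n k j))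

theorem hypTw_shortExact (j : ℤ) : (hypTw ι j).ShortExact := shortExact_tw (hypSeq_shortExact ι) j

theorem nonempty_hypTw_X₁ (j : ℤ) : Nonempty ((hypTw ι j).X₁ ≅ tw' F (j - 1)) :=
  nonempty_tw_tw F (show -1 + j = j - 1 by omega)

/-- `h¹(F(j))`. -/
irreducible_def h1 (F : (CohB1.ProjSpace n k).Modules) (j : ℤ) : ℕ :=
  Module.finrank k (Coh.HH (CohB1.ProjSpace n k) (tw' F j) 1)

theorem surjective_step {m j : ℤ} (hG : Regular (cokernel ι) m) (hj : m ≤ j)
    (h : Function.Surjective (hmap (hypTw ι j).g 0)) : Function.Surjective (hmap (hypTw ι (j + 1)).g 0) := by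
  rw [surjective_hmap_zero_iff] at h ⊢
  have h1 := surjective_app_tensor (N := O' n k 1) (hypTw ι j).g h (hG.surjective_one hj)
  obtain ⟨e⟩ := nonempty_O_add (n := n) (R := k) (show j + 1 = j + 1 from rfl)
  let Ξ : ∀ K : (CohB1.ProjSpace n k).Modules,
      CohB1.tensorMod (tw' K j) (O' n k 1) ≅ tw' K (j + 1) := fun K =>
    tensorAssoc K _ _ ≪≫ tensorIso (Iso.refl K) e
  have hn : tensorMap (hypTw ι j).g (𝟙 (O' n k 1)) ≫ (Ξ (cokernel ι)).hom =
      (Ξ F).hom ≫ (hypTw ι (j + 1)).g := by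
    show tensorMap (tensorMap (cokernel.π ι) (𝟙 (O' n k j))) (𝟙 (O' n k 1)) ≫
      (tensorAssoc (cokernel ι) _ _).hom ≫ tensorMap (𝟙 _) e.hom =
      ((tensorAssoc F _ _).hom ≫ tensorMap (𝟙 F) e.hom) ≫ tensorMap (cokernel.π ι) (𝟙 _)
    rw [reassoc_of% Groth.L29.DC.Assoc.assoc_natural (cokernel.π ι) (𝟙 (O' n k j)) (𝟙 (O' n k 1)),
      Groth.L00.Tensor.tensorMap_id, Category.assoc, ← tensorMap_comp, ← tensorMap_comp, Category.id_comp,
      Category.comp_id, Category.id_comp, Category.comp_id]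
  intro y
  obtain ⟨z, rfl⟩ := ((ConcreteCategory.isIso_iff_bijective _).1
    (Scheme.Modules.Hom.isIso_iff_isIso_app.1 (inferInstance : IsIso (Ξ (cokernel ι)).hom) ⊤)).2 y
  obtain ⟨w, rfl⟩ := h1 z
  exact ⟨(Ξ F).hom.app ⊤ w, (congrArg (fun f => f.app ⊤ w) hn).symm⟩

section

variable {ι}

theorem subsingleton_of_bound (hF : Coh.IsCoh F) {q : ℕ} {j : ℤ} (hq : 1 ≤ q)
    (hinj : ∀ t : ℤ, j < t → ∀ z : Coh.HH _ (hypTw ι t).X₁ q, hmap (hypTw ι t).f q z = 0 → z = 0) :
    Subsingleton (Coh.HH _ (tw' F j) q) := by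
  obtain ⟨d₀, hd⟩ := ProjSpace.exists_vanishing n k F hF
  suffices hs : ∀ (s : ℕ) (t : ℤ), j ≤ t → (d₀ : ℤ) ≤ t + s → Subsingleton (Coh.HH _ (tw' F t) q) from
    hs ((d₀ : ℤ) - j).toNat j le_rfl (by omega)
  intro s
  induction s with
  | zero =>
    intro t _ h2
    obtain ⟨d, rfl⟩ : ∃ d : ℕ, t = d := ⟨t.toNat, by omega⟩
    exact subsingleton_iso (Groth.L00.Tensor.tensorComm _ _) q (hd d (by omega) q hq)
  | succ s ih =>
    intro t ht h2
    obtain ⟨e⟩ := nonempty_hypTw_X₁ ι (t + 1)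
    haveI : Subsingleton (Coh.HH _ (hypTw ι (t + 1)).X₂ q) := ih (t + 1) (by omega) (by omega)
    have h : Subsingleton (Coh.HH _ (hypTw ι (t + 1)).X₁ q) :=
      subsingleton_of_forall_eq 0 fun z => hinj (t + 1) (by omega) z (Subsingleton.elim _ _)
    exact subsingleton_iso (e ≪≫ eqToIso (congrArg (tw' F) (show t + 1 - 1 = t by omega))) q h

end

theorem subsingleton_ge_two (hF : Coh.IsCoh F) {m : ℤ} (hG : Regular (cokernel ι) m) {q : ℕ} (hq : 2 ≤ q) {j : ℤ}
    (hj : m - q ≤ j) : Subsingleton (Coh.HH _ (tw' F j) q) := by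
  refine subsingleton_of_bound (ι := ι) hF (by omega) fun t ht z hz => ?_
  obtain ⟨q, rfl⟩ : ∃ q', q = q' + 1 := ⟨q - 1, by omega⟩
  haveI : Subsingleton (Coh.HH _ (hypTw ι t).X₃ q) := hG.subsingleton (by omega) (by omega)
  obtain ⟨y, rfl⟩ := (exact_delta_hmap (hypTw_shortExact ι t) q z).1 hz
  rw [Subsingleton.elim y 0, map_zero]

theorem finite_h1 (hF : Coh.IsCoh F) (j : ℤ) : Module.Finite k (Coh.HH (CohB1.ProjSpace n k) (tw' F j) 1) := by
  haveI := isProper_over_proj (k := k) (n := n)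
  exact Groth.L16.ProperFinite.finite_HH k
    (Groth.L03.Euler.isCoh_tensor (ProjTwist.isInvertible_twistProjSpace n k j) hF) 1

theorem h1_le (hF : Coh.IsCoh F) {m j : ℤ} (hG : Regular (cokernel ι) m) (hj : m - 1 ≤ j) :
    h1 F j ≤ h1 F (j - 1) := by
  haveI := finite_h1 hF (j - 1)
  obtain ⟨e⟩ := nonempty_hypTw_X₁ ι j
  haveI : Subsingleton (Coh.HH _ (hypTw ι j).X₃ 1) := hG.subsingleton le_rfl (by omega)
  let f : Coh.HH (CohB1.ProjSpace n k) (tw' F (j - 1)) 1 →ₗ[k] Coh.HH (CohB1.ProjSpace n k) (tw' F j) 1 :=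
    overLin k (hmap (e.inv ≫ (hypTw ι j).f) 1)
  rw [h1_def, h1_def]
  refine LinearMap.finrank_le_finrank_of_surjective (f := f) fun y => ?_
  obtain ⟨z, hz⟩ := (exact_hmap_hmap (hypTw_shortExact ι j) 1 y).1 (Subsingleton.elim _ _)
  refine ⟨hmap e.hom 1 z, ?_⟩
  show hmap (e.inv ≫ (hypTw ι j).f) 1 (hmap e.hom 1 z) = y
  rw [← hmap_comp, Iso.hom_inv_id_assoc, hz]

theorem h1_lt (hF : Coh.IsCoh F) {m j : ℤ} (hG : Regular (cokernel ι) m) (hj : m ≤ j) (h0 : h1 F (j - 1) ≠ 0) :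
    h1 F j < h1 F (j - 1) := by
  refine lt_of_le_of_ne (h1_le ι hF hG (by omega)) fun heq => h0 ?_
  haveI := finite_h1 hF (j - 1)
  haveI := finite_h1 hF j
  obtain ⟨e⟩ := nonempty_hypTw_X₁ ι j
  haveI : Subsingleton (Coh.HH _ (hypTw ι j).X₃ 1) := hG.subsingleton le_rfl (by omega)
  let f : Coh.HH (CohB1.ProjSpace n k) (tw' F (j - 1)) 1 →ₗ[k] Coh.HH (CohB1.ProjSpace n k) (tw' F j) 1 :=
    overLin k (hmap (e.inv ≫ (hypTw ι j).f) 1)
  have hsf : Function.Surjective f := fun y => by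
    obtain ⟨z, hz⟩ := (exact_hmap_hmap (hypTw_shortExact ι j) 1 y).1 (Subsingleton.elim _ _)
    refine ⟨hmap e.hom 1 z, ?_⟩
    show hmap (e.inv ≫ (hypTw ι j).f) 1 (hmap e.hom 1 z) = y
    rw [← hmap_comp, Iso.hom_inv_id_assoc, hz]
  rw [h1_def, h1_def] at heq
  have hif : Function.Injective f :=
    (LinearMap.injective_iff_surjective_of_finrank_eq_finrank heq.symm).2 hsf
  have hinj : Function.Injective (hmap (hypTw ι j).f 1) := fun a b hab => by
    have h' : hmap e.hom 1 a = hmap e.hom 1 b := hif (by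
      show hmap (e.inv ≫ (hypTw ι j).f) 1 (hmap e.hom 1 a) = hmap (e.inv ≫ (hypTw ι j).f) 1 (hmap e.hom 1 b)
      rw [← hmap_comp, ← hmap_comp, Iso.hom_inv_id_assoc, hab])
    have h'' := congrArg (hmap e.inv 1) h'
    rwa [← hmap_comp, ← hmap_comp, e.hom_inv_id, hmap_id, hmap_id] at h''
  have hsur0 : Function.Surjective (hmap (hypTw ι j).g 0) := fun y =>
    (exact_hmap_delta (hypTw_shortExact ι j) 0 y).1 (hinj
      (((exact_delta_hmap (hypTw_shortExact ι j) 0) _).2 ⟨y, rfl⟩ |>.trans (map_zero _).symm))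
  have hsur : ∀ t : ℕ, Function.Surjective (hmap (hypTw ι (j + (t : ℤ))).g 0) := by
    intro t
    induction t with
    | zero => rwa [show j + ((0 : ℕ) : ℤ) = j by omega]
    | succ t ih =>
      rw [show j + ((t + 1 : ℕ) : ℤ) = j + (t : ℤ) + 1 by omega]
      exact surjective_step ι hG (by omega) ih
  haveI : Subsingleton (Coh.HH (CohB1.ProjSpace n k) (tw' F (j - 1)) 1) := by
    refine subsingleton_of_bound (ι := ι) hF le_rfl fun t ht z hz => ?_
    obtain ⟨s, rfl⟩ : ∃ s : ℕ, t = j + s := ⟨(t - j).toNat, by omega⟩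
    obtain ⟨y, rfl⟩ := (exact_delta_hmap (hypTw_shortExact ι _) 0 z).1 hz
    obtain ⟨w, rfl⟩ := hsur s y
    exact ((exact_hmap_delta (hypTw_shortExact ι _) 0) _).2 ⟨w, rfl⟩
  rw [h1_def]
  exact Module.finrank_zero_of_subsingleton

theorem subsingleton_one (hF : Coh.IsCoh F) {m j : ℤ} (hG : Regular (cokernel ι) m)
    (hj : m - 1 + (h1 F (m - 1) : ℤ) ≤ j) : Subsingleton (Coh.HH _ (tw' F j) 1) := by
  have h : ∀ t : ℕ, h1 F (m - 1 + (t : ℤ)) ≤ h1 F (m - 1) - t := by
    intro t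
    induction t with
    | zero => simp
    | succ t ih =>
      rw [show m - 1 + ((t + 1 : ℕ) : ℤ) = m + (t : ℤ) by omega]
      by_cases h0 : h1 F (m - 1 + (t : ℤ)) = 0
      · have := h1_le ι hF hG (show m - 1 ≤ m + (t : ℤ) by omega)
        rw [show m + (t : ℤ) - 1 = m - 1 + t by omega] at this
        omega
      · have := h1_lt ι hF hG (show m ≤ m + (t : ℤ) by omega)
          (by rwa [show m + (t : ℤ) - 1 = m - 1 + t by omega])
        rw [show m + (t : ℤ) - 1 = m - 1 + t by omega] at this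
        omega
  obtain ⟨t, rfl⟩ : ∃ t : ℕ, j = m - 1 + t := ⟨(j - (m - 1)).toNat, by omega⟩
  have h' := h t
  haveI := finite_h1 hF (m - 1 + t)
  exact Module.finrank_zero_iff.1 (by rw [← h1_def]; omega)

theorem regular_hyp (hF : Coh.IsCoh F) {m : ℤ} (hG : Regular (cokernel ι) m) :
    Regular F (m + h1 F (m - 1)) := fun q hq => by
  rcases eq_or_lt_of_le hq with rfl | hq'
  · exact subsingleton_one ι hF hG (by omega)
  · exact subsingleton_ge_two ι hF hG hq' (by omega)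

end Groth.L22.Reg
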