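import Groth.Agent.L22.Reg.CounitT
import Groth.Agent.L22.Reg.Lin
import Groth.Agent.L16.ProjSpace.RelTwist
import Groth.Agent.L16.CohKernel
import Groth.Agent.L16.AffineBC.Pullback
import Groth.Agent.L16.Exist.PushPull
import Groth.Agent.L17.FlatBase.CxTools
import Groth.Agent.L16.DevissageKilled

/-!
Modules pulled back from the base have no higher twisted direct images; kernels of counits.
-/

set_option autoImplicit false
set_option backward.isDefEq.respectTransparency false
set_option backward.isDefEq.respectTransparency.types false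
set_option linter.style.haveILetI false
universe u

open CategoryTheory CategoryTheory.Limits AlgebraicGeometry TopologicalSpace Opposite

noncomputable section

namespace Groth.L22.Reg

open Groth.L00.Tensor (tensorMap tensorIso tensorAssoc tensorComm tensorRightF tensorUnitLeft)
open Groth.L16
open Groth.L16.CohLinear (exact_hmap_delta)
open Groth.L20.PnPic (toPt isPullback_toPt)

theorem exists_epi_free_fin {X : Scheme.{u}} [IsAffine X] {M : X.Modules} (hM : Coh.IsCoh M) :
    ∃ (b : ℕ) (p : (∐ fun _ : Fin b => Coh.structureModule X) ⟶ M), Epi p := by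
  haveI : Coh.IsQCoh M := hM.1
  obtain ⟨σ, hσ⟩ := CohKernel.exists_finite_generators M hM.2
  obtain ⟨b, ⟨e⟩⟩ := Finite.exists_equiv_fin σ.I
  let π : (SheafOfModules.free σ.I : X.Modules) ⟶ M := σ.π
  let w : (∐ fun _ : Fin b => Coh.structureModule X) ≅ (SheafOfModules.free σ.I : X.Modules) :=
    Sigma.whiskerEquiv (f := fun _ : Fin b => Coh.structureModule X) (g := fun _ : σ.I => Coh.structureModule X)
      e.symm (fun _ => Iso.refl _)
  haveI : Epi π := σ.epi
  exact ⟨b, w.hom ≫ π, inferInstance⟩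

section Affine

variable (n : ℕ) (A : Type u) [CommRing A] [IsNoetherianRing A]

theorem subsingleton_pullback_base (q : ℕ) (hq : 1 ≤ q) :
    ∀ (M : (Spec (CommRingCat.of A)).Modules), Coh.IsCoh M → ∀ d : ℤ, -(n : ℤ) ≤ d →
      Subsingleton (Coh.HH (CohB1.ProjSpace n A)
        (tw' ((Scheme.Modules.pullback (CohB1.ProjSpace.toSpec n A)).obj M) d) q) := by
  obtain ⟨t, ht⟩ : ∃ t, n + 1 ≤ q + t := ⟨n + 1, by omega⟩
  induction t generalizing q with
  | zero =>
    intro M hM d _
    haveI := (Groth.L16.AffineBC.isCoh_pullback (CohB1.ProjSpace.toSpec n A) hM).1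
    haveI := isQCoh_tw ((Scheme.Modules.pullback (CohB1.ProjSpace.toSpec n A)).obj M) d
    exact ProjSpace.subsingleton_HH_of_lt n A _ q (by omega)
  | succ t ih =>
    intro M hM d hd
    obtain ⟨b, p, hp⟩ := exists_epi_free_fin hM
    haveI := hp
    let S := ShortComplex.mk (kernel.ι p) p (kernel.condition p)
    have hS : S.ShortExact := { exact := ShortComplex.exact_kernel p, epi_g := hp }
    have hO : Coh.IsCoh (∐ fun _ : Fin b => Coh.structureModule (Spec (CommRingCat.of A))) :=
      isCoh_sigma_structure b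
    have hK : Coh.IsCoh S.X₁ := (CohKernel.isCoh_kernel_cokernel hO hM p).1
    haveI : Flat (CohB1.ProjSpace.toSpec n A) := inferInstance
    haveI := Groth.L17.CxTools.preservesFiniteLimits_pullback (CohB1.ProjSpace.toSpec n A)
    haveI := Groth.L17.CxTools.preservesFiniteColimits_pullback (CohB1.ProjSpace.toSpec n A)
    haveI := Groth.L17.CxTools.additive_pullback (CohB1.ProjSpace.toSpec n A)
    have hP := shortExact_tw (hS.map_of_exact (Scheme.Modules.pullback (CohB1.ProjSpace.toSpec n A))) d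
    refine subsingleton_of_exact (exact_hmap_delta hP q) ?_ (ih (q + 1) (by omega) (by omega) _ hK d hd) (map_zero _)
    haveI : (Scheme.Modules.pullback (CohB1.ProjSpace.toSpec n A)).IsLeftAdjoint :=
      (Scheme.Modules.pullbackPushforwardAdjunction _).isLeftAdjoint
    obtain ⟨z0⟩ := nonempty_O_zero n A
    let e : (Scheme.Modules.pullback (CohB1.ProjSpace.toSpec n A)).obj
        (∐ fun _ : Fin b => Coh.structureModule (Spec (CommRingCat.of A))) ≅ ∐ fun _ : Fin b => O' n A 0 :=
      PreservesCoproduct.iso (Scheme.Modules.pullback (CohB1.ProjSpace.toSpec n A)) _ ≪≫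
        Sigma.mapIso fun _ => Groth.L29.LocFree.pullbackUnitIso _ ≪≫ z0.symm
    exact (subsingleton_congr_iso (tensorIso e (Iso.refl _)) q).2
      (subsingleton_sigma_twist b (by omega) (fun hh => by omega))
where
  isCoh_sigma_structure {A : Type u} [CommRing A] [IsNoetherianRing A] (b : ℕ) :
      Coh.IsCoh (∐ fun _ : Fin b => Coh.structureModule (Spec (CommRingCat.of A))) :=
    Groth.L16.Devissage.isCoh_sigma _ fun _ => Groth.L16.CohClosedPush.isCoh_structure

end Affine

section Rel

variable {n : ℕ} {T : Scheme.{u}}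

theorem vpush_of_affines (M : (KRR.PY n T).Modules) (q : ℕ)
    (h : ∀ W : T.Opens, IsAffineOpen W → Subsingleton (Groth.L17.HU (X := (CohB1.ProjSpaceOver n T).toTopCat)
      ((CohB1.ProjSpaceOver.toBase n T) ⁻¹ᵁ W) (Coh.toAb M) q)) :
    VPush (KRR.pr n T) q M := by
  obtain ⟨e⟩ := Groth.L10.SiteCoh.nonempty_Rpush_iso (Opens.grothendieckTopology T.toTopCat)
    (Opens.map (CohB1.ProjSpaceOver.toBase n T).base) (Coh.toAb M) q
  refine (Groth.L10.SiteCoh.isZero_presheafToSheaf _ _ fun V x => ?_).of_iso e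
  refine ⟨⟨{ arrows := fun W g => ((Opens.map (CohB1.ProjSpaceOver.toBase n T).base).op ⋙
              (Coh.toAb M).cohomologyPresheaf q).map g.op x = 0
             downward_closed := fun {W W'} g hg g' => by
              simp only [op_comp, Functor.map_comp, ConcreteCategory.comp_apply, hg, map_zero] }, fun y hy => ?_⟩, fun a => a.hf⟩
  obtain ⟨W, hW, hyW, hWV⟩ := (Opens.isBasis_iff_nbhd.1 T.isBasis_affineOpens) hy
  exact ⟨W, homOfLE hWV, @Subsingleton.elim _ (h W hW) _ _, hyW⟩

theorem nonempty_HU_affine (M : (KRR.PY n T).Modules) {W : T.Opens} (hW : IsAffineOpen W) (q : ℕ) :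
    Nonempty (Groth.L17.HU (X := (CohB1.ProjSpaceOver n T).toTopCat)
      ((CohB1.ProjSpaceOver.toBase n T) ⁻¹ᵁ W) (Coh.toAb M) q ≃+
        Coh.HH (CohB1.ProjSpace n Γ(T, W)) ((Scheme.Modules.pullback (toPt n hW.fromSpec)).obj M) q) := by
  let b : Spec (CommRingCat.of Γ(T, W)) ⟶ T := hW.fromSpec
  have hsq := isPullback_toPt n b
  haveI : IsOpenImmersion b := inferInstanceAs (IsOpenImmersion hW.fromSpec)
  haveI : IsOpenImmersion (toPt n b) := MorphismProperty.of_isPullback hsq.flip inferInstance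
  have hrange : (toPt n b).opensRange = (CohB1.ProjSpaceOver.toBase n T) ⁻¹ᵁ W := by
    refine Opens.ext ?_
    show Set.range (toPt n b) = (CohB1.ProjSpaceOver.toBase n T) ⁻¹' (W : Set T)
    rw [← hW.range_fromSpec]
    rw [← hsq.isoPullback_hom_fst, Scheme.Hom.comp_base, TopCat.coe_comp, Set.range_comp,
      Set.range_eq_univ.2 hsq.isoPullback.hom.surjective, Set.image_univ]
    exact Scheme.Pullback.range_fst _ _
  obtain ⟨e⟩ := Groth.L17.nonempty_hu_image (toPt n b) (⊤ : (CohB1.ProjSpace n Γ(T, W)).Opens) (Coh.toAb M) q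
  rw [Scheme.Hom.image_top_eq_opensRange, hrange] at e
  let j := (Scheme.Modules.restrictFunctorIsoPullback (toPt n b)).app M
  exact ⟨e.trans ((Groth.L17.hTopEquiv (X := (CohB1.ProjSpace n Γ(T, W)).toTopCat) _ q).symm.trans
    (Groth.L17.BC.HHequiv j q).toAddEquiv)⟩

variable [IsNoetherian T]

theorem vt_pullback {M : T.Modules} (hM : Coh.IsCoh M) {q : ℕ} (hq : 1 ≤ q) {d : ℤ} (hd : -(n : ℤ) ≤ d) :
    VT q d ((Scheme.Modules.pullback (KRR.pr n T)).obj M) := by
  refine vpush_of_affines _ q fun W hW => ?_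
  obtain ⟨φ⟩ := nonempty_HU_affine (CohB1.tensorMod ((Scheme.Modules.pullback (KRR.pr n T)).obj M)
    (Twist.twistOver n T d)) hW q
  haveI : IsNoetherianRing Γ(T, W) := IsLocallyNoetherian.component_noetherian ⟨W, hW⟩
  obtain ⟨i⟩ := ProjSpace.nonempty_pullback_twistOver_iso n hW.fromSpec d (S := T)
  let P := Scheme.Modules.pullback (toPt n hW.fromSpec)
  let M' : (Spec (CommRingCat.of Γ(T, W))).Modules := (Scheme.Modules.pullback hW.fromSpec).obj M
  haveI : IsLocallyNoetherian (Spec (CommRingCat.of Γ(T, W))) := inferInstance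
  have hM' : Coh.IsCoh M' := Groth.L16.AffineBC.isCoh_pullback _ hM
  let j : P.obj ((Scheme.Modules.pullback (KRR.pr n T)).obj M) ≅
      (Scheme.Modules.pullback (CohB1.ProjSpace.toSpec n Γ(T, W))).obj M' :=
    (Scheme.Modules.pullbackComp _ _).app M ≪≫
      (Scheme.Modules.pullbackCongr (isPullback_toPt n hW.fromSpec).w).app M ≪≫
      ((Scheme.Modules.pullbackComp _ _).app M).symm
  have h := subsingleton_iso
    ((Groth.L29.DC.PullTensor.pullTensor (toPt n hW.fromSpec) _ _).symm ≪≫ tensorIso j i).symm q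
    (subsingleton_pullback_base n Γ(T, W) q hq M' hM' d hd)
  exact φ.toEquiv.subsingleton_congr.2 h

theorem regular_kernel_counit {F : (KRR.PY n T).Modules} (hF : Coh.IsCoh F) (hreg : KRR.IsRegSheaf n T F) :
    KRR.IsRegSheaf n T (KRR.twF n T 1
      (kernel ((Scheme.Modules.pullbackPushforwardAdjunction (KRR.pr n T)).counit.app F))) := by
  haveI : Coh.IsQCoh F := hF.1
  haveI : IsProper (KRR.pr n T) := ProjSpace.isProper_toBase n T
  haveI := epi_counit hreg
  let ε := (Scheme.Modules.pullbackPushforwardAdjunction (KRR.pr n T)).counit.app F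
  have hM : Coh.IsCoh ((Scheme.Modules.pushforward (KRR.pr n T)).obj F) :=
    Groth.L16.Exist.isCoh_pushforward (KRR.pr n T) hF
  have hS : (ShortComplex.mk (kernel.ι ε) ε (kernel.condition ε)).ShortExact :=
    { exact := ShortComplex.exact_kernel ε, epi_g := epi_counit hreg }
  refine regular_left (S := ShortComplex.mk (kernel.ι ε) ε (kernel.condition ε)) hS ?_ hreg ?_
  · refine isRegSheaf_iff.2 fun i hi => (vt_twF (show 1 + -(i : ℤ) = 1 - i by ring)).2 ?_
    rcases le_or_gt i (n + 1) with h | h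
    · exact vt_pullback hM hi (by omega)
    · exact vt_gt hM (by omega) _
  · exact (IsSplitEpi.mk' ⟨(Scheme.Modules.pullbackPushforwardAdjunction (KRR.pr n T)).unit.app _,
      (Scheme.Modules.pullbackPushforwardAdjunction (KRR.pr n T)).right_triangle_components F⟩).epi
where
  vt_gt {M : T.Modules} (hM : Coh.IsCoh M) {q : ℕ} (hq : n < q) (d : ℤ) :
      VT q d ((Scheme.Modules.pullback (KRR.pr n T)).obj M) := by
    haveI : Coh.IsQCoh M := hM.1
    haveI := Groth.L16.AffineBC.isQCoh_pullback (KRR.pr n T) M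
    haveI := Groth.L21.Extend.isQCoh_of_isInvertible (Groth.L17.Strat.isInvertible_twistOver n T d)
    haveI := Groth.L00.Tensor.isQCoh_tensorMod ((Scheme.Modules.pullback (KRR.pr n T)).obj M) (Twist.twistOver n T d)
    refine vpush_of_affines _ q fun W hW => ?_
    obtain ⟨φ⟩ := nonempty_HU_affine (CohB1.tensorMod ((Scheme.Modules.pullback (KRR.pr n T)).obj M)
      (Twist.twistOver n T d)) hW q
    haveI := Groth.L16.AffineBC.isQCoh_pullback (toPt n hW.fromSpec)
      (CohB1.tensorMod ((Scheme.Modules.pullback (KRR.pr n T)).obj M) (Twist.twistOver n T d))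
    exact φ.toEquiv.subsingleton_congr.2 (ProjSpace.subsingleton_HH_of_lt n Γ(T, W) _ q hq)

end Rel

end Groth.L22.Reg
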