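import Groth.Agent.L22.Reg.Mult
import Groth.Prelude.Def_Curv2

/-!
Global generation descends along surjective multiplications.
-/

set_option autoImplicit false
set_option backward.isDefEq.respectTransparency false
set_option linter.style.haveILetI false
universe u

open CategoryTheory CategoryTheory.Limits AlgebraicGeometry TopologicalSpace Opposite

noncomputable section

namespace Groth.L22.Reg

open Groth.L00.Tensor (tensorMap tensorRightF pre)
open Groth.L18.GenLoc (tens secOf homOfSection_secOf secOf_homOfSection)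
open Groth.L16 (homOfSection)

variable {X : Scheme.{u}}

/-- A free module. -/
abbrev freeM (X : Scheme.{u}) (I : Type u) : X.Modules := SheafOfModules.free I

/-- The canonical map from the free module on the global sections. -/
def evMap (G : X.Modules) : freeM X Γ(G, ⊤) ⟶ G :=
  Sigma.desc fun g => homOfSection G g

theorem exists_app_evMap (G : X.Modules) (g : Γ(G, ⊤)) : ∃ g', (evMap G).app ⊤ g' = g := by
  refine ⟨secOf (L := freeM X Γ(G, ⊤))
    (Sigma.ι (fun _ : Γ(G, ⊤) => Coh.structureModule X) g), ?_⟩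
  have h : (Sigma.ι (fun _ : Γ(G, ⊤) => Coh.structureModule X) g :
      Coh.structureModule X ⟶ freeM X Γ(G, ⊤)) ≫ evMap G = homOfSection G g :=
    Sigma.ι_desc (fun g => homOfSection G g) g
  exact (congrArg (secOf (L := G)) h).trans (secOf_homOfSection g)

/-- If `G ⊗ N` is globally generated and multiplication is surjective, `G` is globally generated. -/
theorem isGloballyGenerated_of_mult {G N : X.Modules} (hN : PicF.IsInvertible N)
    (hgg : Curv2.IsGloballyGenerated (CohB1.tensorMod G N))
    (hs : Function.Surjective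
      ((toSheafify (Opens.grothendieckTopology X) (CohB1.tensorPre G N).presheaf).app (op ⊤))) :
    Curv2.IsGloballyGenerated G := by
  refine ⟨Γ(G, ⊤), evMap G, ?_⟩
  obtain ⟨ι, q, hq⟩ := hgg
  have hsec : ∀ y : Γ(CohB1.tensorMod G N, ⊤), ∃ w, (tensorMap (evMap G) (𝟙 N)).app ⊤ w = y := by
    intro y
    obtain ⟨p, rfl⟩ := hs y
    change ∃ w, (tensorMap (evMap G) (𝟙 N)).app ⊤ w =
      ((toSheafify (Opens.grothendieckTopology X) (CohB1.tensorPre G N).presheaf).app (op ⊤)) p
    induction p using TensorProduct.induction_on with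
    | zero => exact ⟨0, (map_zero _).trans (map_zero _).symm⟩
    | tmul g t =>
      obtain ⟨g', hg'⟩ := exists_app_evMap G g
      refine ⟨tens _ N ⊤ g' t, ?_⟩
      rw [Groth.L18.Ample.tensorMap_tens, hg']
      rfl
    | add a b ha hb =>
      obtain ⟨wa, hwa⟩ := ha
      obtain ⟨wb, hwb⟩ := hb
      exact ⟨wa + wb, by rw [map_add, hwa, hwb]; exact (map_add _ _ _).symm⟩
  choose w hw using fun i : ι =>
    hsec (secOf (L := CohB1.tensorMod G N) (Sigma.ι (fun _ : ι => Coh.structureModule X) i ≫ q))
  let l : freeM X ι ⟶ CohB1.tensorMod (freeM X Γ(G, ⊤)) N :=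
    Sigma.desc fun i => homOfSection _ (w i)
  have hl : l ≫ tensorMap (evMap G) (𝟙 N) = q := by
    refine Sigma.hom_ext _ _ fun i => ?_
    have h1 : Sigma.ι (fun _ : ι => Coh.structureModule X) i ≫ l = homOfSection _ (w i) :=
      Sigma.ι_desc (fun i => homOfSection _ (w i)) i
    refine (reassoc_of% h1) (tensorMap (evMap G) (𝟙 N)) |>.trans ?_
    refine (homOfSection_secOf _).symm.trans ((congrArg (homOfSection _) ?_).trans (homOfSection_secOf _))
    refine Eq.trans ?_ (hw i)
    exact congrArg ((tensorMap (evMap G) (𝟙 N)).app ⊤) (secOf_homOfSection (w i))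
  haveI : Epi (tensorMap (evMap G) (𝟙 N)) := by
    haveI := hq
    rw [← hl] at hq
    exact epi_of_epi l _
  refine (Groth.L21.Mod.epi_iff_stalk_surjective _).2 fun x v => ?_
  obtain ⟨θ, hθ, -, hnat⟩ := exists_theta x hN
  obtain ⟨u, hu⟩ := (Groth.L21.Mod.epi_iff_stalk_surjective (tensorMap (evMap G) (𝟙 N))).1 inferInstance x (θ G v)
  obtain ⟨u', rfl⟩ := (hθ _).2 u
  exact ⟨u', (hθ G).1 ((hnat _ _ (evMap G) u').symm.trans hu)⟩

end Groth.L22.Reg
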