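import Groth.Agent.L22.Reg.Counit
import Groth.Agent.L18.AmplePull
import Groth.Agent.L18.AmpleComp

/-!
The counit on `ℙⁿ_T`.
-/

set_option autoImplicit false
set_option backward.isDefEq.respectTransparency false
set_option linter.style.haveILetI false
universe u

open CategoryTheory CategoryTheory.Limits AlgebraicGeometry TopologicalSpace

noncomputable section

namespace Groth.L22.Reg

open Groth.L00.Tensor (tensorMap tensorIso tensorAssoc tensorComm tensorUnitRight)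
open Groth.L18.Ample (tw twIso)

variable (n : ℕ) (T : Scheme.{u})

theorem isAffineOpen_chart {U : (CohB1.ProjSpace n (ULift.{u} ℤ)).Opens} (hU : IsAffineOpen U) {W : T.Opens}
    (hW : IsAffineOpen W) : IsAffineOpen ((toZ n T) ⁻¹ᵁ U ⊓ (KRR.pr n T) ⁻¹ᵁ W) := by
  let A := (KRR.pr n T) ⁻¹ᵁ W
  haveI : IsAffine W.toScheme := hW
  haveI : IsAffineHom (W.ι ≫ specULiftZIsTerminal.from T) := inferInstance
  have h1 : IsPullback (KRR.pr n T ∣_ W) A.ι W.ι (KRR.pr n T) := (isPullback_morphismRestrict (KRR.pr n T) W).flip.flip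
  have h2 : IsPullback (A.ι ≫ toZ n T) (KRR.pr n T ∣_ W) (CohB1.ProjSpace.toSpec n (ULift.{u} ℤ))
      (W.ι ≫ specULiftZIsTerminal.from T) := h1.flip.paste_horiz (IsPullback.of_hasPullback _ _)
  haveI : IsAffineHom (A.ι ≫ toZ n T) := MorphismProperty.of_isPullback (P := @IsAffineHom) h2.flip inferInstance
  have h3 := hU.preimage (A.ι ≫ toZ n T)
  rw [← Scheme.Hom.isAffineOpen_iff_of_isOpenImmersion A.ι] at h3
  have e : A.ι ''ᵁ ((A.ι ≫ toZ n T) ⁻¹ᵁ U) = (toZ n T) ⁻¹ᵁ U ⊓ A := by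
    rw [Scheme.Hom.comp_preimage, Scheme.Hom.image_preimage_eq_opensRange_inf, Scheme.Opens.opensRange_ι, inf_comm]
  rwa [e] at h3

theorem exists_section_chart (x : CohB1.ProjSpaceOver n T) :
    ∃ s : Coh.structureModule _ ⟶ Twist.twistOver n T 1, x ∈ CohB1.genLocus _ s ∧
      ∀ W : T.Opens, IsAffineOpen W → IsAffineOpen (CohB1.genLocus _ s ⊓ (KRR.pr n T) ⁻¹ᵁ W) := by
  obtain ⟨i, hi⟩ := Groth.L16.ProjSpace.exists_mem_basicOpen_X n (ULift.{u} ℤ) (toZ n T x)
  let f : CohB1.polyGrading n (ULift.{u} ℤ) 1 := ⟨MvPolynomial.X i, Groth.L16.ProjSpace.X_mem n _ i⟩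
  have hg := Groth.L16.ProjTwist.genLocus_sect (CohB1.polyGrading n (ULift.{u} ℤ)) (hcov n _) f
  have hs : CohB1.genLocus (Twist.twistOver n T 1)
      ((Groth.L29.LocFree.pullbackUnitIso (toZ n T)).symm.hom ≫
        (Scheme.Modules.pullback (toZ n T)).map (Groth.L16.ProjTwist.sect (CohB1.polyGrading n (ULift.{u} ℤ)) f)) =
      (toZ n T) ⁻¹ᵁ Proj.basicOpen (CohB1.polyGrading n (ULift.{u} ℤ)) f.1 :=
    (Groth.L18.Ample.genLocus_iso_pullback (toZ n T)
      (Groth.L16.ProjTwist.isInvertible_twistProjSpace n _ ((1 : ℕ) : ℤ)) _ _).trans (congrArg _ hg)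
  refine ⟨_, hs.ge hi, fun W hW => ?_⟩
  rw [hs]
  exact isAffineOpen_chart n T (Proj.isAffineOpen_basicOpen _ _ f.2 one_pos) hW

variable {n T}

theorem nonempty_tw_OT (F : (KRR.PY n T).Modules) (k : ℕ) :
    Nonempty (tw F (Twist.twistOver n T 1) k ≅ CohB1.tensorMod F (Twist.twistOver n T (k : ℤ))) := by
  obtain ⟨e⟩ := Groth.L17.Strat.nonempty_tensorPow_twistOver n T k
  exact ⟨twIso F _ k ≪≫ tensorIso (Iso.refl F) e⟩

theorem pushforward_map_twMap {F G : (KRR.PY n T).Modules} (hreg : KRR.IsRegSheaf n T F) (g : F ⟶ G)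
    (hg : (Scheme.Modules.pushforward (KRR.pr n T)).map g = 0) :
    ∀ k, (Scheme.Modules.pushforward (KRR.pr n T)).map (twMap g (Twist.twistOver n T 1) k) = 0
  | 0 => hg
  | k + 1 => by
    obtain ⟨e1⟩ := nonempty_OT_add n T (show (1 : ℤ) + -1 = 0 by norm_num)
    obtain ⟨e0⟩ := nonempty_OT_zero n T
    refine pushforward_map_tensor_eq_zero (KRR.pr n T) (Groth.L17.Strat.isInvertible_twistOver n T (-1))
      (generates_sigmasT n T) (e1 ≪≫ e0) _ (pushforward_map_twMap hreg g hg k) fun j => ?_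
    obtain ⟨t⟩ := nonempty_tw_OT F k
    obtain ⟨p⟩ := nonempty_OT_pow n T (j + 2)
    obtain ⟨a⟩ := nonempty_OT_add n T (show (1 : ℤ) + -((j + 2 : ℕ) : ℤ) = -((0 + (j + 1) : ℕ) : ℤ) by omega)
    obtain ⟨b⟩ := nonempty_OT_add n T
      (show (k : ℤ) + -((0 + (j + 1) : ℕ) : ℤ) = -((0 + (j + 1) : ℕ) : ℤ) + k by ring)
    exact (isVan_vpush _).iso (tensorAssoc _ _ _ ≪≫ tensorIso t (tensorIso (Iso.refl _) p ≪≫ a) ≪≫
      tensorAssoc _ _ _ ≪≫ tensorIso (Iso.refl F) b).symm _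
      (vt_propagate (isRegSheaf_iff.1 hreg) k (0 + (j + 1)) (by omega))

theorem epi_counit {F : (KRR.PY n T).Modules} [Coh.IsQCoh F] (hreg : KRR.IsRegSheaf n T F) :
    Epi ((Scheme.Modules.pullbackPushforwardAdjunction (KRR.pr n T)).counit.app F) := by
  refine Preadditive.epi_of_cancel_zero _ fun {G} g hg => ?_
  have h1 : (Scheme.Modules.pushforward (KRR.pr n T)).map g = 0 := by
    let adj := Scheme.Modules.pullbackPushforwardAdjunction (KRR.pr n T)
    have h2 : adj.homEquiv _ _ (adj.counit.app F ≫ g) = (Scheme.Modules.pushforward (KRR.pr n T)).map g := by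
      rw [Adjunction.homEquiv_unit, Functor.map_comp, ← Category.assoc]
      erw [adj.right_triangle_components]
      exact Category.id_comp _
    rw [← h2, hg, Adjunction.homEquiv_unit, Functor.map_zero, comp_zero]
  haveI : IsProper (KRR.pr n T) := Groth.L16.ProjSpace.isProper_toBase n T
  exact eq_zero_of_twists (KRR.pr n T) (F := F) g (Groth.L17.Strat.isInvertible_twistOver n T 1) (exists_section_chart n T)
    (pushforward_map_twMap hreg g h1)

end Groth.L22.Reg
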