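import Groth.Agent.L22.Reg.ChaseGen
import Groth.Agent.L22.Reg.Pn
import Groth.Agent.L17.ToAbRpush
import Groth.Agent.L00.RDerLES
import Groth.Agent.L17.Strat.Poly
import Groth.Agent.L00.PullStalk
import Groth.Agent.L29.LocFree
import Groth.Prelude.Def_KRR

/-!
Castelnuovo–Mumford regularity relative to `ℙⁿ_T ⟶ T`.
-/

set_option autoImplicit false
set_option backward.isDefEq.respectTransparency false
set_option linter.style.haveILetI false
universe u

open CategoryTheory CategoryTheory.Limits AlgebraicGeometry TopologicalSpace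

noncomputable section

namespace Groth.L22.Reg

open Groth.L00.Tensor (tensorMap tensorIso tensorAssoc tensorComm tensorUnitRight tensorUnitLeft tensorRightF)
open Groth.L17 (toAbShF)

section Van

variable {X Y : Scheme.{u}} (f : X ⟶ Y)

/-- Vanishing of a higher direct image. -/
def VPush (q : ℕ) (M : X.Modules) : Prop := IsZero ((Coh.RpushAb f q).obj (Coh.toAb M))

theorem shortExact_toAb {S : ShortComplex X.Modules} (hS : S.ShortExact) : (S.map (toAbShF X)).ShortExact :=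
  hS.map_of_exact (toAbShF X)

theorem vpush_left {S : ShortComplex X.Modules} (hS : S.ShortExact) (q : ℕ) (h₂ : VPush f (q + 1) S.X₂)
    (he : Epi ((Coh.RpushAb f q).map ((toAbShF X).map S.g))) : VPush f (q + 1) S.X₁ := by
  letI := HasDerivedCategory.standard (Sheaf (Opens.grothendieckTopology X) AddCommGrpCat.{u})
  letI := HasDerivedCategory.standard (Sheaf (Opens.grothendieckTopology Y) AddCommGrpCat.{u})
  haveI : PreservesFiniteLimits (Coh.pushAb f) :=
    inferInstanceAs (PreservesFiniteLimits (TopCat.Sheaf.pushforward AddCommGrpCat.{u} f.base))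
  haveI : Epi (((Coh.pushAb f).rightDerived q).map (S.map (toAbShF X)).g) := he
  exact Groth.L00.RDerLES.isZero_X₁ (Coh.pushAb f) (shortExact_toAb hS) q h₂

theorem isVan_vpush : IsVan (VPush f) where
  mid {S} hS q h₁ h₃ := by
    letI := HasDerivedCategory.standard (Sheaf (Opens.grothendieckTopology X) AddCommGrpCat.{u})
    letI := HasDerivedCategory.standard (Sheaf (Opens.grothendieckTopology Y) AddCommGrpCat.{u})
    haveI : PreservesFiniteLimits (Coh.pushAb f) :=
      inferInstanceAs (PreservesFiniteLimits (TopCat.Sheaf.pushforward AddCommGrpCat.{u} f.base))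
    haveI := Groth.L00.RDerLES.additive (Coh.pushAb f) q
    exact (Groth.L00.RDerLES.exact₂ (Coh.pushAb f) (shortExact_toAb hS) q).isZero_of_both_zeros
      (IsZero.eq_of_src h₁ _ _) (IsZero.eq_of_tgt h₃ _ _)
  right {S} hS q h₂ h₁ := by
    letI := HasDerivedCategory.standard (Sheaf (Opens.grothendieckTopology X) AddCommGrpCat.{u})
    letI := HasDerivedCategory.standard (Sheaf (Opens.grothendieckTopology Y) AddCommGrpCat.{u})
    haveI : PreservesFiniteLimits (Coh.pushAb f) :=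
      inferInstanceAs (PreservesFiniteLimits (TopCat.Sheaf.pushforward AddCommGrpCat.{u} f.base))
    haveI := Groth.L00.RDerLES.epi_map_g (Coh.pushAb f) (shortExact_toAb hS) q h₁
    exact IsZero.of_epi (((Coh.pushAb f).rightDerived q).map (S.map (toAbShF X)).g) h₂
  iso {A B} e q h := IsZero.of_iso h (((Coh.RpushAb f q).mapIso ((toAbShF X).mapIso e)).symm)
  zero {A} h q := by
    letI := HasDerivedCategory.standard (Sheaf (Opens.grothendieckTopology X) AddCommGrpCat.{u})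
    letI := HasDerivedCategory.standard (Sheaf (Opens.grothendieckTopology Y) AddCommGrpCat.{u})
    haveI : PreservesFiniteLimits (Coh.pushAb f) :=
      inferInstanceAs (PreservesFiniteLimits (TopCat.Sheaf.pushforward AddCommGrpCat.{u} f.base))
    haveI : (Coh.RpushAb f q).Additive := Groth.L00.RDerLES.additive (Coh.pushAb f) q
    exact (Coh.RpushAb f q).map_isZero ((toAbShF X).map_isZero h)

end Van

variable (n : ℕ) (T : Scheme.{u})

/-- The projection to `ℙⁿ_ℤ`. -/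
abbrev toZ : CohB1.ProjSpaceOver n T ⟶ CohB1.ProjSpace n (ULift.{u} ℤ) :=
  pullback.fst (CohB1.ProjSpace.toSpec n (ULift.{u} ℤ)) (specULiftZIsTerminal.from T)

theorem nonempty_OT_add {a b c : ℤ} (h : a + b = c) :
    Nonempty (CohB1.tensorMod (Twist.twistOver n T a) (Twist.twistOver n T b) ≅ Twist.twistOver n T c) := by
  obtain ⟨t⟩ := nonempty_O_add (n := n) (R := ULift.{u} ℤ) h
  exact ⟨Groth.L29.DC.PullTensor.pullTensor _ _ _ ≪≫ (Scheme.Modules.pullback (toZ n T)).mapIso t⟩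

theorem nonempty_OT_zero : Nonempty (Twist.twistOver n T 0 ≅ Coh.structureModule (CohB1.ProjSpaceOver n T)) := by
  obtain ⟨t⟩ := nonempty_O_zero n (ULift.{u} ℤ)
  exact ⟨(Scheme.Modules.pullback (toZ n T)).mapIso t ≪≫ Groth.L29.LocFree.pullbackUnitIso (toZ n T)⟩

theorem nonempty_OT_pow : ∀ j : ℕ, Nonempty (CohB1.tensorPow (Twist.twistOver n T (-1)) j ≅
    Twist.twistOver n T (-(j : ℤ)))
  | 0 => by
    obtain ⟨e⟩ := nonempty_OT_zero n T
    exact ⟨e.symm⟩
  | j + 1 => by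
    obtain ⟨e⟩ := nonempty_OT_pow j
    obtain ⟨e'⟩ := nonempty_OT_add n T (show -(j : ℤ) + -1 = -((j + 1 : ℕ) : ℤ) by omega)
    exact ⟨tensorIso e (Iso.refl _) ≪≫ e'⟩

/-- The coordinate maps `O(-1) ⟶ O`. -/
def sigmasT : List (Twist.twistOver n T (-1) ⟶ Coh.structureModule (CohB1.ProjSpaceOver n T)) :=
  (sigmas n (ULift.{u} ℤ)).map fun σ =>
    (Scheme.Modules.pullback (toZ n T)).map σ ≫ (Groth.L29.LocFree.pullbackUnitIso (toZ n T)).hom

theorem generates_sigmasT : Generates (sigmasT n T) := by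
  intro x
  obtain ⟨σ, hσ, hb⟩ := generates_sigmas (n := n) (R := ULift.{u} ℤ) (toZ n T x)
  refine ⟨_, List.mem_map.2 ⟨σ, hσ, rfl⟩, ?_⟩
  haveI : IsIso ((Groth.L00.Stk.F (CohB1.ProjSpace n (ULift.{u} ℤ)) (toZ n T x)).map σ) :=
    (ConcreteCategory.isIso_iff_bijective _).2 hb
  haveI : IsIso ((Scheme.Modules.pullback (toZ n T) ⋙ Groth.L00.Stk.F _ x).map σ) :=
    (NatIso.isIso_map_iff (Groth.L00.PullStalk.stalkIso (toZ n T) x) σ).2
      (Functor.map_isIso (ModuleCat.extendScalars _) ((Groth.L00.Stk.F _ (toZ n T x)).map σ))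
  haveI : IsIso ((Groth.L00.Stk.F (CohB1.ProjSpaceOver n T) x).map
      ((Scheme.Modules.pullback (toZ n T)).map σ ≫ (Groth.L29.LocFree.pullbackUnitIso (toZ n T)).hom)) := by
    rw [Functor.map_comp]
    haveI : IsIso ((Groth.L00.Stk.F (CohB1.ProjSpaceOver n T) x).map ((Scheme.Modules.pullback (toZ n T)).map σ)) :=
      ‹IsIso ((Scheme.Modules.pullback (toZ n T) ⋙ Groth.L00.Stk.F _ x).map σ)›
    infer_instance
  exact (ConcreteCategory.isIso_iff_bijective _).1 inferInstance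

theorem nonempty_twF_iso (d : ℤ) (F : (KRR.PY n T).Modules) :
    Nonempty (KRR.twF n T d F ≅ CohB1.tensorMod (Twist.twistOver n T d) F) :=
  ⟨Iso.refl _⟩

variable {n T}

/-- Vanishing for the twist `F(d)`. -/
def VT (q : ℕ) (d : ℤ) (F : (KRR.PY n T).Modules) : Prop :=
  VPush (KRR.pr n T) q (CohB1.tensorMod F (Twist.twistOver n T d))

theorem isRegSheaf_iff {F : (KRR.PY n T).Modules} :
    KRR.IsRegSheaf n T F ↔ ∀ i : ℕ, 1 ≤ i → VT i (-(i : ℤ)) F :=
  forall₂_congr fun i _ => by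
    obtain ⟨e⟩ := nonempty_twF_iso n T (-(i : ℤ)) F
    let e' := e ≪≫ tensorComm _ _
    exact ⟨(isVan_vpush _).iso e' i, (isVan_vpush _).iso e'.symm i⟩

theorem vt_twF {q : ℕ} {a d c : ℤ} (h : a + d = c) {F : (KRR.PY n T).Modules} :
    VT q d (KRR.twF n T a F) ↔ VT q c F := by
  obtain ⟨e⟩ := nonempty_twF_iso n T a F
  obtain ⟨t⟩ := nonempty_OT_add n T h
  let e' : CohB1.tensorMod (KRR.twF n T a F) (Twist.twistOver n T d) ≅ CohB1.tensorMod F (Twist.twistOver n T c) :=
    tensorIso (e ≪≫ tensorComm _ _) (Iso.refl _) ≪≫ tensorAssoc _ _ _ ≪≫ tensorIso (Iso.refl F) t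
  exact ⟨(isVan_vpush _).iso e' q, (isVan_vpush _).iso e'.symm q⟩

theorem vt_propagate {F : (KRR.PY n T).Modules} (h : ∀ i : ℕ, 1 ≤ i → VT i (-(i : ℤ)) F) :
    ∀ (t i : ℕ), 1 ≤ i → VT i (-(i : ℤ) + t) F
  | 0, i, hi => by simpa using h i hi
  | t + 1, i, hi => by
    refine (isVan_vpush (KRR.pr n T)).van_of_twists (Groth.L17.Strat.isInvertible_twistOver n T (-1))
      (generates_sigmasT n T) fun j => ?_
    obtain ⟨e⟩ := nonempty_OT_pow n T (j + 1)
    obtain ⟨e'⟩ := nonempty_OT_add n T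
      (show (-(i : ℤ) + ((t + 1 : ℕ) : ℤ)) + -((j + 1 : ℕ) : ℤ) = -((i + j : ℕ) : ℤ) + t by omega)
    exact (isVan_vpush _).iso (tensorAssoc _ _ _ ≪≫ tensorIso (Iso.refl F)
      (tensorIso (Iso.refl _) e ≪≫ e')).symm _ (vt_propagate h t (i + j) (by omega))

theorem shortExact_twistT {S : ShortComplex (KRR.PY n T).Modules} (hS : S.ShortExact) (d : ℤ) :
    (S.map (tensorRightF (Twist.twistOver n T d))).ShortExact :=
  Groth.L03.Euler.shortExact_tensor (Groth.L17.Strat.isInvertible_twistOver n T d) hS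

theorem vt_zero_iff {q : ℕ} {F : (KRR.PY n T).Modules} : VT q 0 F ↔ VPush (KRR.pr n T) q F := by
  obtain ⟨z⟩ := nonempty_OT_zero n T
  let e : CohB1.tensorMod F (Twist.twistOver n T 0) ≅ F := tensorIso (Iso.refl F) z ≪≫ tensorUnitRight F
  exact ⟨(isVan_vpush _).iso e q, (isVan_vpush _).iso e.symm q⟩

end Groth.L22.Reg

namespace Groth.L22.Reg

open Groth.L17 (toAbShF)

variable {n : ℕ} {T : Scheme.{u}}

theorem regular_twF {F : (KRR.PY n T).Modules} (h : KRR.IsRegSheaf n T F) (m : ℕ) :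
    KRR.IsRegSheaf n T (KRR.twF n T (m : ℤ) F) :=
  isRegSheaf_iff.2 fun i hi =>
    (vt_twF (show (m : ℤ) + -(i : ℤ) = -(i : ℤ) + m by omega)).2 (vt_propagate (isRegSheaf_iff.1 h) m i hi)

theorem vpush_of_regular {F : (KRR.PY n T).Modules} (h : KRR.IsRegSheaf n T F) (i : ℕ) (hi : 1 ≤ i) :
    VPush (KRR.pr n T) i F :=
  vt_zero_iff.1 (by simpa using vt_propagate (isRegSheaf_iff.1 h) i i hi)

theorem regular_left {S : ShortComplex (KRR.PY n T).Modules} (hS : S.ShortExact)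
    (h₂ : KRR.IsRegSheaf n T (KRR.twF n T 1 S.X₂)) (h₃ : KRR.IsRegSheaf n T S.X₃)
    (hepi : Epi ((Scheme.Modules.pushforward (KRR.pr n T)).map S.g)) :
    KRR.IsRegSheaf n T (KRR.twF n T 1 S.X₁) := by
  refine isRegSheaf_iff.2 fun q hq => ?_
  obtain ⟨i, rfl⟩ : ∃ i, q = i + 1 := ⟨q - 1, by omega⟩
  refine (vt_twF (show 1 + -((i + 1 : ℕ) : ℤ) = -(i : ℤ) by omega)).2 ?_
  have hX₂ : VT (i + 1) (-(i : ℤ)) S.X₂ :=
    (vt_twF (show 1 + -((i + 1 : ℕ) : ℤ) = -(i : ℤ) by omega)).1 (isRegSheaf_iff.1 h₂ (i + 1) (by omega))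
  rcases Nat.eq_zero_or_pos i with rfl | hi
  · rw [Nat.cast_zero, neg_zero] at hX₂ ⊢
    refine vt_zero_iff.2 (vpush_left (KRR.pr n T) hS 0 (vt_zero_iff.1 hX₂) ?_)
    haveI : PreservesFiniteLimits (Coh.pushAb (KRR.pr n T)) :=
      inferInstanceAs (PreservesFiniteLimits (TopCat.Sheaf.pushforward AddCommGrpCat.{u} (KRR.pr n T).base))
    haveI := hepi
    haveI : Epi ((Coh.pushAb (KRR.pr n T)).map ((toAbShF _).map S.g)) :=
      inferInstanceAs (Epi ((toAbShF T).map ((Scheme.Modules.pushforward (KRR.pr n T)).map S.g)))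
    have hnat := (Coh.pushAb (KRR.pr n T)).rightDerivedZeroIsoSelf.hom.naturality ((toAbShF _).map S.g)
    show Epi ((Coh.RpushAb (KRR.pr n T) 0).map ((toAbShF _).map S.g))
    rw [← Iso.app_hom, ← Iso.app_hom, ← Iso.eq_comp_inv, Category.assoc] at hnat
    exact hnat ▸ inferInstanceAs (Epi (((Coh.pushAb (KRR.pr n T)).rightDerivedZeroIsoSelf.app _).hom ≫
      (Coh.pushAb (KRR.pr n T)).map ((toAbShF _).map S.g) ≫
      ((Coh.pushAb (KRR.pr n T)).rightDerivedZeroIsoSelf.app _).inv))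
  · exact vpush_left (KRR.pr n T) (shortExact_twistT hS _) i hX₂
      (IsZero.epi (isRegSheaf_iff.1 h₃ i hi) _)

end Groth.L22.Reg
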