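import Groth.Agent.L22.Reg.Chi

/-!
Regularity of submodules of free modules and kernels of quotients of free modules.
-/

set_option autoImplicit false
set_option backward.isDefEq.respectTransparency false
set_option linter.style.haveILetI false
universe u

open CategoryTheory CategoryTheory.Limits AlgebraicGeometry TopologicalSpace Opposite

noncomputable section

namespace Groth.L22.Reg

open Groth.L00.Tensor (tensorMap tensorRightF tensorIso)
open Groth.L16

variable {k : Type u} [Field k] {n : ℕ}

/-- The bound on `h⁰` of a free module. -/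
def freeB (n p : ℕ) : ℤ → ℤ := fun t => (p : ℤ) * (t + n + 1) ^ n

/-- `O^p` as the sum of copies of `O(0)`. -/
def freeModIso (k : Type u) [Field k] (n p : ℕ) : FlatMod.freeMod (CohB1.ProjSpace n k) p ≅ freeO n k p :=
  Sigma.mapIso fun _ => (nonempty_O_zero n k).some.symm

theorem regular_sub_free {p : ℕ} {f : ℤ → ℤ} {M : ℤ} (hM : Good.{u} (n + 1) (freeB n p) f M)
    {F : (CohB1.ProjSpace n k).Modules} (hF : Coh.IsCoh F) (ι : F ⟶ FlatMod.freeMod (CohB1.ProjSpace n k) p)
    [Mono ι] (hf : ∀ r, chiP F r = f r) : Regular F M :=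
  Good.regular rfl hM hF (ι ≫ (freeModIso k n p).hom) hf

theorem isCoh_freeMod (p : ℕ) : Coh.IsCoh (FlatMod.freeMod (CohB1.ProjSpace n k) p) :=
  Groth.L16.CohSupport.isCoh_of_iso (freeModIso k n p).symm (ProjSpace.isCoh_sigma_twist n k fun _ : Fin p => (0 : ℤ))

theorem regular_kernel_free (hn : 0 < n) {p : ℕ} {f : ℤ → ℤ} {M : ℤ} (hM : Good.{u} (n + 1) (freeB n p) f M)
    {F : (CohB1.ProjSpace n k).Modules} (hF : Coh.IsCoh F) (φ : FlatMod.freeMod (CohB1.ProjSpace n k) p ⟶ F)
    [Epi φ] (hf : ∀ r : ℤ, (p : ℤ) * Ring.choose (r + n) n - chiP F r = f r) : Regular (kernel φ) M := by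
  haveI := isProper_over_proj (k := k) (n := n)
  have hK := (CohKernel.isCoh_kernel_cokernel (isCoh_freeMod p) hF φ).1
  let S := ShortComplex.mk (kernel.ι φ) φ (kernel.condition φ)
  have hS : S.ShortExact := { exact := ShortComplex.exact_kernel φ, epi_g := inferInstanceAs (Epi φ) }
  refine regular_sub_free hM hK (kernel.ι φ) fun r => ?_
  have h := chiP_add hS hK (isCoh_freeMod p) hF r
  have e : chiP (FlatMod.freeMod (CohB1.ProjSpace n k) p) r = chiP (freeO n k p) r := by
    rw [chiP_def, chiP_def]
    exact Groth.L03.Euler.euler_iso ((tensorRightF (O' n k r)).mapIso (freeModIso k n p))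
  have h' := hf r
  rw [← chiP_freeO (k := k) hn p r, ← e] at h'
  change chiP (kernel φ) r = f r
  change chiP (FlatMod.freeMod (CohB1.ProjSpace n k) p) r = chiP (kernel φ) r + chiP F r at h
  omega

end Groth.L22.Reg
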