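import Groth.Agent.L22.Reg.Chase

/-!
The Koszul chase for an abstract vanishing predicate of a cohomological functor.
-/

set_option autoImplicit false
set_option backward.isDefEq.respectTransparency false
set_option linter.style.haveILetI false
universe u

open CategoryTheory CategoryTheory.Limits AlgebraicGeometry TopologicalSpace

noncomputable section

namespace Groth.L22.Reg

variable {X : Scheme.{u}}

/-- The vanishing predicate of a cohomological functor on short exact sequences. -/
structure IsVan (V : ℕ → X.Modules → Prop) : Prop where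
  mid : ∀ {S : ShortComplex X.Modules}, S.ShortExact → ∀ q, V q S.X₁ → V q S.X₃ → V q S.X₂
  right : ∀ {S : ShortComplex X.Modules}, S.ShortExact → ∀ q, V q S.X₂ → V (q + 1) S.X₁ → V q S.X₃
  iso : ∀ {A B : X.Modules}, (A ≅ B) → ∀ q, V q A → V q B
  zero : ∀ {A : X.Modules}, IsZero A → ∀ q, V q A

variable {V : ℕ → X.Modules → Prop} {F L : X.Modules}

theorem IsVan.biprod (hV : IsVan V) {A B : X.Modules} (q : ℕ) (hA : V q A) (hB : V q B) : V q (A ⊞ B) :=
  hV.mid (biSC_shortExact A B) q hA hB

theorem IsVan.van_Z (hV : IsVan V) {C : Aug X F} (h : ∀ x, C.ExactAtPt x) {N : ℕ}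
    (hN : ∀ j, N ≤ j → IsZero (C.obj j)) {q : ℕ} (hv : ∀ j, V (q + (j + 1)) (C.obj (j + 1))) (j : ℕ) :
    V (q + (j + 1)) (C.Z j) := by
  obtain ⟨i, hi⟩ : ∃ i, N ≤ j + i := ⟨N, by omega⟩
  induction i generalizing j with
  | zero => exact hV.zero (isZero_Z (hN j (by omega))) _
  | succ i ih => exact hV.right (zSC_shortExact h j) (q + (j + 1)) (hv j) (ih (j + 1) (by omega))

theorem IsVan.van_aug (hV : IsVan V) {C : Aug X F} (h : ∀ x, C.ExactAtPt x) {N : ℕ}
    (hN : ∀ j, N ≤ j → IsZero (C.obj j)) {q : ℕ} (hv : ∀ j, V (q + j) (C.obj j)) : V q F :=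
  hV.right (zSC₀_shortExact h) q (hv 0) (hV.van_Z h hN (fun j => hv (j + 1)) 0)

/-- Vanishing propagates along twists. -/
theorem IsVan.van_of_twists (hV : IsVan V) (hL : PicF.IsInvertible L) {σs : List (L ⟶ Coh.structureModule X)}
    (hσ : Generates σs) {q : ℕ}
    (h : ∀ j, V (q + j) (CohB1.tensorMod F (CohB1.tensorPow L (j + 1)))) : V q F :=
  hV.van_aug (fun x => kos_exactAtPt x hL (hσ x)) (kos_isZero σs)
    (kos_obj (PP := fun j M => V (q + j) M) (fun _ _ hM => hV.zero hM _) (fun _ _ _ => hV.biprod _)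
      (fun _ _ _ e => hV.iso e _) h)

end Groth.L22.Reg
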