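import Groth.Agent.L18.ExtendQCoh
import Groth.Agent.L16.QcqsPush
import Groth.Agent.L21.Extend.Semilocal
import Groth.Agent.L00.TensorQCoh

/-!
Sections of quasi-coherent modules over `X_s ∩ A` extend to a compact quasi-separated open `A` after twisting.
-/

set_option autoImplicit false
set_option backward.isDefEq.respectTransparency false
universe u

open CategoryTheory AlgebraicGeometry TopologicalSpace Opposite

noncomputable section

namespace Groth.L18.Ample

open Groth.L18.Frame (rs ro rs_rs rs_self rs_smul ro_ro ro_self ro_mul IsFrame)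
open Groth.L18.GenLoc

variable {X : Scheme.{u}} {L N : X.Modules} (σ : Γ(L, ⊤))

/-- A section over `X_s` in a compact quasi-separated open `A` extends to `A` after twisting. -/
theorem exists_extend_qcoh_on {A : X.Opens} (hA : IsCompact (A : Set X))
    (hAq : IsQuasiSeparated (A : Set X)) (hL : PicF.IsInvertible L)
    [Coh.IsQCoh N] (s : Coh.structureModule X ⟶ L) (m : Γ(N, CohB1.genLocus L s ⊓ A)) :
    ∃ (k : ℕ) (t : Γ(tw N L k, A)),
      rs (tw N L k) inf_le_right t = it (secOf s) (CohB1.genLocus L s ⊓ A) m k := by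
  let G := CohB1.genLocus L s ⊓ A
  let σ := secOf s
  have hloc : ∀ x : A, ∃ W : X.Opens, x.1 ∈ W ∧ W ≤ A ∧ IsAffineOpen W ∧ ∃ ε : Γ(L, W), IsFrame L W ε := fun x => by
    obtain ⟨W', ε, hx', hε⟩ := Frame.exists_frame hL x.1
    obtain ⟨_, ⟨V, hV, rfl⟩, hxV, hVW⟩ :=
      X.isBasis_affineOpens.exists_subset_of_mem_open (show x.1 ∈ W' ⊓ A from ⟨hx', x.2⟩) (W' ⊓ A).2
    exact ⟨V, hxV, fun y hy => (hVW hy).2, hV, ⟨_, hε.mono fun y hy => (hVW hy).1⟩⟩
  choose W hxW hWA hW hε using hloc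
  choose ε hε using hε
  obtain ⟨T, hT⟩ := hA.elim_finite_subcover (fun x : A => (W x : Set X)) (fun x => (W x).2)
    (fun x hx => Set.mem_iUnion.2 ⟨⟨x, hx⟩, hxW ⟨x, hx⟩⟩)
  have hcov : A ≤ ⨆ i : T, W i.1 := fun x hxA => by
    obtain ⟨y, hy, hxy⟩ := Set.mem_iUnion₂.1 (hT hxA)
    exact Opens.mem_iSup.2 ⟨⟨y, hy⟩, hxy⟩
  choose a ha using fun i : T => (hε i.1).exists_coeff le_rfl (rs L le_top σ)
  simp only [rs_self] at ha
  have hG : ∀ i : T, G ⊓ W i.1 = X.basicOpen (a i) := fun i => by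
    rw [inf_assoc, inf_eq_right.2 (hWA i.1)]
    exact genLocus_inf_eq s (hε i.1) (ha i)
  have hBG : ∀ i : T, X.basicOpen (a i) ≤ G := fun i => (hG i).ge.trans inf_le_left
  choose n c hc using fun i : T => Groth.L16.QCohSect.exists_pow_smul_eq_res (hW i.1) N (a i) (rs N (hBG i) m)
  obtain ⟨K, hK⟩ := (Set.finite_range n).bddAbove
  let t : ∀ i : T, Γ(tw N L K, W i.1) := fun i => (a i ^ (K - n i)) • fr (c i) (ε i.1) K
  have hha : ∀ (i : T) {V : X.Opens} (hV : V ≤ W i.1), ro hV (a i) • rs L hV (ε i.1) = rs L le_top σ :=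
    fun i V hV => by rw [← rs_smul, ha, rs_rs]
  have hfr : ∀ (i : T) {V : X.Opens} (hV : V ≤ W i.1) (k : ℕ),
      ∀ e : Γ(N, W i.1), rs (tw N L k) hV (fr e (ε i.1) k) = fr (rs N hV e) (rs L hV (ε i.1)) k := by
    intro i V hV k e
    induction k with
    | zero => rfl
    | succ k ih =>
      show rs (CohB1.tensorMod (tw N L k) L) hV (tens _ L _ _ _) = tens _ L V _ _
      rw [tens_rs, ih]
  have ht : ∀ i : T, rs (tw N L K) (X.basicOpen_le (a i)) (t i) = it σ _ (rs N (hBG i) m) K := fun i => by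
    rw [it_eq_smul_fr σ (hha i (X.basicOpen_le (a i))) _ K, rs_smul, hfr, hc i, fr_smul, ← mul_smul]
    congr 1
    simp only [ro, map_pow]
    rw [← pow_add, Nat.sub_add_cancel (hK ⟨i, rfl⟩)]
  have hov : ∀ p : T × T, ∃ d : ℕ,
      up N σ _ d (rs (tw N L K) (inf_le_left : W p.1.1 ⊓ W p.2.1 ≤ W p.1.1) (t p.1) -
        rs (tw N L K) (inf_le_right : W p.1.1 ⊓ W p.2.1 ≤ W p.2.1) (t p.2)) = 0 := by
    rintro ⟨i, j⟩
    set W₂ := W i.1 ⊓ W j.1 with hW₂
    set d₀ := rs (tw N L K) (inf_le_left : W₂ ≤ W i.1) (t i) - rs (tw N L K) (inf_le_right : W₂ ≤ W j.1) (t j)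
      with hd₀
    let a' := ro (inf_le_left : W₂ ≤ W i.1) (a i)
    have hVi : X.basicOpen a' ≤ X.basicOpen (a i) := (X.basicOpen_res (a i) _).trans_le inf_le_right
    have hVj : X.basicOpen a' ≤ X.basicOpen (a j) :=
      (le_inf ((hVi.trans (hBG i))) ((X.basicOpen_le a').trans inf_le_right)).trans_eq (hG j)
    have h0 : rs (tw N L K) (X.basicOpen_le a') d₀ = 0 := by
      have h1 := congrArg (rs (tw N L K) hVi) (ht i)
      have h2 := congrArg (rs (tw N L K) hVj) (ht j)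
      rw [rs_rs, it_rs, rs_rs] at h1 h2
      refine (map_sub _ _ _).trans (sub_eq_zero.2 ?_)
      show rs _ _ (rs _ _ _) = rs _ _ (rs _ _ _)
      rw [rs_rs, rs_rs, h1, h2]
    have hq : IsCompact (W₂ : Set X) :=
      hAq _ _ (hWA i.1) (W i.1).2 (hW i.1).isCompact (hWA j.1) (W j.1).2 (hW j.1).isCompact
    haveI := isQCoh_tw N hL K
    obtain ⟨d, hd⟩ := Groth.L16.QcqsPush.exists_pow_smul_eq_zero (tw N L K) hq a' d₀ h0
    refine ⟨d, (one_smul _ _).symm.trans (up_eq_zero σ (hha i inf_le_left) d d₀ 1 ?_)⟩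
    rw [one_mul]
    exact hd
  choose d hd using hov
  obtain ⟨D, hD⟩ := (Set.finite_range d).bddAbove
  have hup0 : ∀ (U : X.Opens) (a b : ℕ) (x : Γ(tw N L K, U)), a ≤ b → up N σ U a x = 0 → up N σ U b x = 0 := by
    intro U a b x hab hx
    induction hab with
    | refl => exact hx
    | @step p hp ih =>
      show tens _ L U (up N σ U p x) _ = 0
      rw [ih]
      have := tens_smul_left (L := tw N L (K + p)) (M := L) (U := U) 0 (0 : Γ(tw N L (K + p), U)) (rs L le_top σ)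
      rwa [zero_smul, zero_smul] at this
  have hupsub : ∀ (U : X.Opens) (k : ℕ) (x y : Γ(tw N L K, U)),
      up N σ U k (x - y) = up N σ U k x - up N σ U k y := by
    intro U k x y
    induction k with
    | zero => rfl
    | succ k ih =>
      show tens _ L U (up N σ U k (x - y)) _ = tens _ L U (up N σ U k x) _ - tens _ L U (up N σ U k y) _
      rw [ih, eq_sub_iff_add_eq]
      refine (Groth.L00.Tensor.ev_add₁ _ _ _ _ _).symm.trans ?_
      exact congrArg (fun z => tens _ L U z _) (sub_add_cancel _ _)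
  let t' : ∀ i : T, Γ(tw N L (K + D), W i.1) := fun i => up N σ _ D (t i)
  have hcompat : TopCat.Presheaf.IsCompatible (X := X.toTopCat) (tw N L (K + D)).presheaf
      (fun i : T => W i.1) t' := fun i j => by
    show rs (tw N L (K + D)) (inf_le_left : W i.1 ⊓ W j.1 ≤ W i.1) (t' i) =
      rs (tw N L (K + D)) (inf_le_right : W i.1 ⊓ W j.1 ≤ W j.1) (t' j)
    simp only [t', up_rs]
    rw [← sub_eq_zero, ← hupsub]
    exact hup0 _ _ _ _ (hD ⟨(i, j), rfl⟩) (hd (i, j))
  let OM : TopCat.Sheaf Ab.{u} X.toTopCat := ⟨(tw N L (K + D)).presheaf, (tw N L (K + D)).isSheaf⟩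
  obtain ⟨g, hg, -⟩ := TopCat.Sheaf.existsUnique_gluing' OM
    (fun i : T => W i.1) A (fun i => homOfLE (hWA i.1)) hcov t' hcompat
  refine ⟨K + D, g, OM.eq_of_locally_eq' (fun i : T => X.basicOpen (a i)) G (fun i => homOfLE (hBG i)) ?_ _ _
    fun i => ?_⟩
  · intro x hx
    obtain ⟨i, hi⟩ := Opens.mem_iSup.1 (hcov hx.2)
    exact Opens.mem_iSup.2 ⟨i, (hG i).le ⟨hx, hi⟩⟩
  · show rs (tw N L (K + D)) (hBG i) (rs (tw N L (K + D)) inf_le_right g) = rs (tw N L (K + D)) (hBG i) (it σ G m (K + D))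
    rw [rs_rs, it_rs, show rs (tw N L (K + D)) ((hBG i).trans inf_le_right) g =
      rs (tw N L (K + D)) (X.basicOpen_le (a i)) (rs (tw N L (K + D)) (hWA i.1) g) from (rs_rs _ _ _ g).symm]
    rw [show rs (tw N L (K + D)) (hWA i.1) g = t' i from hg i, up_rs, ht i, up_it]

end Groth.L18.Ample
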