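import Groth.Agent.L22.Reg.Rel
import Groth.Agent.L22.Reg.ExtendOn
import Groth.Agent.L22.Reg.Mult
import Groth.Agent.L18.GlobGen
import Groth.Agent.L18.RelAmpleCrit
import Groth.Agent.L20.ResAmple
import Groth.Agent.L16.Existence.Vanishing

/-!
The counit `p^* p_* F ⟶ F` of a regular module on `ℙⁿ_T` is an epimorphism.
-/

set_option autoImplicit false
set_option backward.isDefEq.respectTransparency false
set_option linter.style.haveILetI false
universe u

open CategoryTheory CategoryTheory.Limits AlgebraicGeometry TopologicalSpace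

noncomputable section

namespace Groth.L22.Reg

open Groth.L00.Tensor (tensorMap tensorIso tensorAssoc tensorComm tensorRightF tensorUnitRight)
open Groth.L17 (toAbShF)
open Groth.L18.Ample (tw it hom_app_rs eq_zero_of_local it_eq_smul_fr isFrame_fr)
open Groth.L18.Frame (rs rs_rs rs_self IsFrame)
open Groth.L18.GenLoc (tens secOf)

section General

variable {X Y : Scheme.{u}} (f : X ⟶ Y)

instance additive_pushforward' : (Scheme.Modules.pushforward f).Additive :=
  haveI : (Scheme.Modules.pushforward f).IsRightAdjoint :=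
    (Scheme.Modules.pullbackPushforwardAdjunction f).isRightAdjoint
  Functor.additive_of_preserves_binary_products _

theorem epi_pushforward_aug {F : X.Modules} {C : Aug X F} (h : ∀ x, C.ExactAtPt x) {N : ℕ}
    (hN : ∀ j, N ≤ j → IsZero (C.obj j)) (hv : ∀ j, VPush f (0 + (j + 1)) (C.obj (j + 1))) :
    Epi ((Scheme.Modules.pushforward f).map C.aug) := by
  letI := HasDerivedCategory.standard (Sheaf (Opens.grothendieckTopology X) AddCommGrpCat.{u})
  letI := HasDerivedCategory.standard (Sheaf (Opens.grothendieckTopology Y) AddCommGrpCat.{u})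
  haveI : PreservesFiniteLimits (Coh.pushAb f) :=
    inferInstanceAs (PreservesFiniteLimits (TopCat.Sheaf.pushforward AddCommGrpCat.{u} f.base))
  have hZ : VPush f (0 + 1) (C.Z 0) := (isVan_vpush f).van_Z h hN hv 0
  have he : Epi (((Coh.pushAb f).rightDerived 0).map ((toAbShF X).map C.aug)) :=
    Groth.L00.RDerLES.epi_map_g (Coh.pushAb f) (shortExact_toAb (zSC₀_shortExact h)) 0 hZ
  have hnat := (Coh.pushAb f).rightDerivedZeroIsoSelf.hom.naturality ((toAbShF X).map C.aug)
  haveI : Epi (((Coh.pushAb f).rightDerived 0).map ((toAbShF X).map C.aug) ≫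
      ((Coh.pushAb f).rightDerivedZeroIsoSelf.hom.app ((toAbShF X).obj F))) := by
    haveI := he
    infer_instance
  rw [hnat] at *
  haveI : Epi ((Coh.pushAb f).map ((toAbShF X).map C.aug)) := epi_of_epi
    ((Coh.pushAb f).rightDerivedZeroIsoSelf.hom.app ((toAbShF X).obj (C.obj 0))) _
  haveI : Epi ((toAbShF Y).map ((Scheme.Modules.pushforward f).map C.aug)) :=
    inferInstanceAs (Epi ((Coh.pushAb f).map ((toAbShF X).map C.aug)))
  exact (toAbShF Y).epi_of_epi_map inferInstance

variable {L N : X.Modules} (e : CohB1.tensorMod N L ≅ Coh.structureModule X)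

theorem map_aug_comp_eq_zero {F G : X.Modules} (g : F ⟶ G) :
    ∀ (l : List (L ⟶ Coh.structureModule X)),
      (∀ σ ∈ l, (Scheme.Modules.pushforward f).map (mu σ F ≫ g) = 0) →
      (Scheme.Modules.pushforward f).map ((kos F l).aug ≫ g) = 0
  | [], _ => by
    show (Scheme.Modules.pushforward f).map ((0 : _ ⟶ F) ≫ g) = 0
    rw [zero_comp, Functor.map_zero]
  | σ :: l, h => by
    show (Scheme.Modules.pushforward f).map (biprod.desc (mu σ F) (kos F l).aug ≫ g) = 0
    rw [biprod.desc_eq, Preadditive.add_comp, Category.assoc, Category.assoc, Functor.map_add,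
      Functor.map_comp, Functor.map_comp _ biprod.snd, h σ List.mem_cons_self,
      map_aug_comp_eq_zero g l (fun τ hτ => h τ (List.mem_cons_of_mem _ hτ)), comp_zero, comp_zero, add_zero]

/-- A morphism killing direct images still does so after twisting. -/
theorem pushforward_map_tensor_eq_zero (hL : PicF.IsInvertible L) {σs : List (L ⟶ Coh.structureModule X)}
    (hσ : Generates σs) (e : CohB1.tensorMod N L ≅ Coh.structureModule X) {A B : X.Modules} (g : A ⟶ B)
    (hg : (Scheme.Modules.pushforward f).map g = 0)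
    (hv : ∀ j, VPush f (0 + (j + 1)) (CohB1.tensorMod (CohB1.tensorMod A N) (CohB1.tensorPow L (j + 2)))) :
    (Scheme.Modules.pushforward f).map (tensorMap g (𝟙 N)) = 0 := by
  have hk := kos_obj (F := CohB1.tensorMod A N) (σs := σs)
    (PP := fun j M => 1 ≤ j → VPush f (0 + j) M)
    (fun _ _ hM _ => (isVan_vpush f).zero hM _)
    (fun _ _ _ hA hB hj => (isVan_vpush f).biprod _ (hA hj) (hB hj))
    (fun _ _ _ i hA hj => (isVan_vpush f).iso i _ (hA hj)) (fun j hj => by
      obtain ⟨i, rfl⟩ := Nat.exists_eq_add_of_le hj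
      rw [Nat.add_comm 1 i]
      exact hv i)
  haveI := epi_pushforward_aug f (fun x => kos_exactAtPt (F := CohB1.tensorMod A N) x hL (hσ x))
    (kos_isZero σs) (fun j => hk (j + 1) (by omega))
  rw [← cancel_epi ((Scheme.Modules.pushforward f).map (kos (CohB1.tensorMod A N) σs).aug), comp_zero,
    ← Functor.map_comp]
  refine map_aug_comp_eq_zero f _ σs fun σ _ => ?_
  have h : mu σ (CohB1.tensorMod A N) ≫ tensorMap g (𝟙 N) = (cI e A).hom ≫ g ≫ psi e σ B := by
    rw [psi_natural, ← Category.assoc]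
    congr 1
    rw [psi, Iso.hom_inv_id_assoc]
  rw [h, Functor.map_comp, Functor.map_comp, hg, zero_comp, comp_zero]

theorem eq_zero_of_rs_eq_zero' {X : Scheme.{u}} (G : X.Modules) {U V : X.Opens} (h : V ≤ U) (y : Γ(G, U)) (h' : U ≤ V)
    (hy : rs G h y = 0) : y = 0 := by
  have h1 := congrArg (rs G h') hy
  rw [rs_rs, rs_self] at h1
  exact h1.trans (map_zero _)

/-- The twist of a morphism. -/
def twMap {F G : X.Modules} (g : F ⟶ G) (L : X.Modules) : ∀ k, tw F L k ⟶ tw G L k
  | 0 => g
  | k + 1 => tensorMap (twMap g L k) (𝟙 L)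

theorem twMap_it {F G L : X.Modules} (g : F ⟶ G) (σ : Γ(L, ⊤)) (U : X.Opens) (m : Γ(F, U)) :
    ∀ k, (twMap g L k).app U (it σ U m k) = it σ U (g.app U m) k
  | 0 => rfl
  | k + 1 => by
    show (tensorMap (twMap g L k) (𝟙 L)).app U (tens _ L U _ _) = tens _ L U _ _
    rw [Groth.L18.Ample.tensorMap_tens, twMap_it g σ U m k]
    rfl

theorem bijective_tens_frame {M L : X.Modules} {U : X.Opens} {ε : Γ(L, U)} (hε : IsFrame L U ε)
    (hL : PicF.IsInvertible L) : Function.Injective fun m : Γ(M, U) => tens M L U m ε :=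
  Groth.L20.ResDescent.tens_injective (Groth.L16.Existence.isFinLocFree_of_isInvertible hL) M hε

/-- Vanishing of twisted pushforwards forces vanishing. -/
theorem eq_zero_of_twists [IsSeparated f] [QuasiCompact f] {F G : X.Modules} [Coh.IsQCoh F] (g : F ⟶ G)
    {L : X.Modules} (hL : PicF.IsInvertible L) (hgen : ∀ x, ∃ s : Coh.structureModule X ⟶ L, x ∈ CohB1.genLocus L s ∧
      ∀ W : Y.Opens, IsAffineOpen W → IsAffineOpen (CohB1.genLocus L s ⊓ f ⁻¹ᵁ W))
    (h : ∀ k, (Scheme.Modules.pushforward f).map (twMap g L k) = 0) : g = 0 := by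
  refine eq_zero_of_local g fun V c z hz => ?_
  obtain ⟨_, ⟨W, hW, rfl⟩, hzW, -⟩ :=
    Y.isBasis_affineOpens.exists_subset_of_mem_open (Set.mem_univ (f z)) isOpen_univ
  obtain ⟨s, hs, haff⟩ := hgen z
  let A := f ⁻¹ᵁ W
  let D := CohB1.genLocus L s ⊓ A
  refine ⟨V ⊓ D, inf_le_left, ⟨hz, hs, hzW⟩, ?_⟩
  -- all sections of `F` on opens below `D` are killed
  have hD : ∀ c' : Γ(F, D), g.app D c' = 0 := by
    intro c'
    obtain ⟨k, t, ht⟩ := Groth.L18.Ample.exists_extend_qcoh_on (A := A) (QuasiCompact.isCompact_preimage W.1 W.2 hW.isCompact)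
      (f.isQuasiSeparated_preimage hW.isQuasiSeparated) hL s c'
    have h0 : (twMap g L k).app A t = 0 := congr(($(h k)).app W t)
    have h1 := congrArg ((twMap g L k).app D) ht
    rw [hom_app_rs, h0, twMap_it] at h1
    have hfr : IsFrame L D (rs L le_top (secOf s)) := by
      have h' := (Groth.L18.GenLoc.isFrame_genLocus s).mono (inf_le_left : D ≤ CohB1.genLocus L s)
      rwa [rs_rs] at h'
    have hz0 : ∀ (k : ℕ) (m : Γ(G, D)), it (secOf s) D m k = 0 → m = 0 := by
      intro k
      induction k with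
      | zero => exact fun m hm => hm
      | succ k ih =>
        intro m hm
        refine ih m (bijective_tens_frame hfr hL (hm.trans ?_))
        exact (Groth.L18.Ample.tens_zero_left _).symm
    exact hz0 k _ (h1.symm.trans (map_zero _))
  haveI : IsAffine D.toScheme := haff W hW
  haveI : Coh.IsQCoh (F.restrict D.ι) := Scheme.Modules.isQuasicoherent_restrictFunctor _ F
  have hA := Groth.L18.Ample.eq_zero_of_killsGlobal
    (Groth.L18.Ample.isGloballyGenerated_of_isQuasiAffine (F.restrict D.ι))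
    ((Scheme.Modules.restrictFunctor D.ι).map g) fun t => by
      have h2 := hD (rs F D.ι_image_top.ge t)
      rw [hom_app_rs] at h2
      exact eq_zero_of_rs_eq_zero' G D.ι_image_top.ge _ D.ι_image_top.le h2
  have hle : V ⊓ D ≤ D.ι ''ᵁ (D.ι ⁻¹ᵁ V) := fun y hy => ⟨⟨y, hy.2⟩, hy.1, rfl⟩
  have hle' : D.ι ''ᵁ (D.ι ⁻¹ᵁ V) ≤ V := by
    rintro _ ⟨w, hw, rfl⟩
    exact hw
  have h3 : g.app _ (rs F hle' c) = 0 := congr(($hA).app (D.ι ⁻¹ᵁ V) _)
  have h4 := congrArg (rs G hle) h3
  rw [← hom_app_rs, rs_rs] at h4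
  exact h4.trans (map_zero _)

end General

end Groth.L22.Reg
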