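import Groth.Agent.L22.Reg.Forms
import Groth.Agent.L03.Euler.Basic

/-!
Mumford's uniform bound on the regularity of submodules.
-/

set_option autoImplicit false
set_option backward.isDefEq.respectTransparency false
set_option linter.style.haveILetI false
universe u

open CategoryTheory CategoryTheory.Limits AlgebraicGeometry TopologicalSpace Opposite

noncomputable section

namespace Groth.L22.Reg

open Groth.L00.Tensor (tensorMap tensorRightF tensorIso)
open Groth.L16
open Groth.L16.CohLinear (hmap hmap_comp overLin exact_hmap_hmap exact_hmap_delta)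

variable {k : Type u} [Field k] {n : ℕ}

/-- `h⁰(F(t))`. -/
irreducible_def h0t (F : (CohB1.ProjSpace n k).Modules) (t : ℤ) : ℕ :=
  Module.finrank k (Coh.HH (CohB1.ProjSpace n k) ((tensorRightF (O' n k t)).obj F) 0)

theorem obj_eq_tw (F : (CohB1.ProjSpace n k).Modules) (t : ℤ) : (tensorRightF (O' n k t)).obj F = tw' F t := rfl

theorem h0t_eq (F : (CohB1.ProjSpace n k).Modules) (t : ℤ) :
    h0t F t = Module.finrank k (Coh.HH (CohB1.ProjSpace n k) (tw' F t) 0) :=
  (h0t_def F t).trans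
    (congrArg (fun M => Module.finrank k (Coh.HH (CohB1.ProjSpace n k) M 0)) (obj_eq_tw F t))

/-- `χ(F(t))`. -/
irreducible_def chiP (F : (CohB1.ProjSpace n k).Modules) (t : ℤ) : ℤ :=
  Curv2.euler k (CohB1.ProjSpace n k) ((tensorRightF (O' n k t)).obj F)

theorem chiP_eq (F : (CohB1.ProjSpace n k).Modules) (t : ℤ) :
    chiP F t = Curv2.euler k (CohB1.ProjSpace n k) (tw' F t) :=
  (chiP_def F t).trans (congrArg (Curv2.euler k (CohB1.ProjSpace n k)) (obj_eq_tw F t))

theorem isCoh_tw {F : (CohB1.ProjSpace n k).Modules} (hF : Coh.IsCoh F) (d : ℤ) : Coh.IsCoh (tw' F d) :=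
  Groth.L03.Euler.isCoh_tensor (ProjTwist.isInvertible_twistProjSpace n k d) hF

theorem isCoh_obj {F : (CohB1.ProjSpace n k).Modules} (hF : Coh.IsCoh F) (d : ℤ) :
    Coh.IsCoh ((tensorRightF (O' n k d)).obj F) := (obj_eq_tw F d).symm ▸ isCoh_tw hF d

theorem finite_h0 {F : (CohB1.ProjSpace n k).Modules} (hF : Coh.IsCoh F) (d : ℤ) :
    Module.Finite k (Coh.HH (CohB1.ProjSpace n k) ((tensorRightF (O' n k d)).obj F) 0) := by
  haveI := isProper_over_proj (k := k) (n := n)
  exact Groth.L16.ProperFinite.finite_HH k ((obj_eq_tw F d).symm ▸ isCoh_tw hF d) 0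

theorem finrank_le_inj {A B : (CohB1.ProjSpace n k).Modules} (f : A ⟶ B) (q : ℕ)
    [Module.Finite k (Coh.HH (CohB1.ProjSpace n k) B q)] (h : Function.Injective (hmap f q)) :
    Module.finrank k (Coh.HH (CohB1.ProjSpace n k) A q) ≤ Module.finrank k (Coh.HH (CohB1.ProjSpace n k) B q) :=
  LinearMap.finrank_le_finrank_of_injective (f := overLin k (hmap f q)) h

theorem finrank_le_surj {A B : (CohB1.ProjSpace n k).Modules} (f : A ⟶ B) (q : ℕ)
    [Module.Finite k (Coh.HH (CohB1.ProjSpace n k) A q)] (h : Function.Surjective (hmap f q)) :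
    Module.finrank k (Coh.HH (CohB1.ProjSpace n k) B q) ≤ Module.finrank k (Coh.HH (CohB1.ProjSpace n k) A q) :=
  LinearMap.finrank_le_finrank_of_surjective (f := overLin k (hmap f q)) h

theorem h0t_cokernel_le {E : (CohB1.ProjSpace n k).Modules} (hE : Coh.IsCoh E)
    (ι : CohB1.tensorMod E (Twist.twistProjSpace n k (-1)) ⟶ E) [Mono ι] (t : ℤ)
    (h : Subsingleton (Coh.HH (CohB1.ProjSpace n k) (hypTw ι t).X₁ 1)) : h0t (cokernel ι) t ≤ h0t E t := by
  have e : (hypTw ι t).X₂ = (tensorRightF (O' n k t)).obj E := rfl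
  have e' : (hypTw ι t).X₃ = (tensorRightF (O' n k t)).obj (cokernel ι) := rfl
  haveI : Module.Finite k (Coh.HH (CohB1.ProjSpace n k) (hypTw ι t).X₂ 0) := e.symm ▸ finite_h0 hE t
  have h' := finrank_le_surj (hypTw ι t).g 0 fun y =>
    (exact_hmap_delta (hypTw_shortExact ι t) 0 y).1 (Subsingleton.elim _ _)
  rw [h0t_def, h0t_def, ← e, ← e']
  exact h'

theorem h0t_le_of_mono {A B : (CohB1.ProjSpace n k).Modules} (hB : Coh.IsCoh B) (i : A ⟶ B) [Mono i] (t : ℤ) :
    h0t A t ≤ h0t B t := by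
  haveI := finite_h0 hB t
  haveI : Mono ((tensorRightF (O' n k t)).map i) := by
    have h := shortExact_tw (S := ShortComplex.mk i (cokernel.π i) (cokernel.condition i))
      { exact := ShortComplex.exact_cokernel i } t
    exact h.mono_f
  haveI : Module.Finite k (Coh.HH (CohB1.ProjSpace n k) ((tensorRightF (O' n k t)).obj B) 0) := finite_h0 hB t
  have h' := finrank_le_inj ((tensorRightF (O' n k t)).map i) 0
    (Groth.L21.RR.injective_hmap_zero ((tensorRightF (O' n k t)).map i))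
  rw [h0t_def, h0t_def]
  exact h'

theorem chiP_add {S : ShortComplex (CohB1.ProjSpace n k).Modules} (hS : S.ShortExact)
    (h₁ : Coh.IsCoh S.X₁) (h₂ : Coh.IsCoh S.X₂) (h₃ : Coh.IsCoh S.X₃) (t : ℤ) :
    chiP S.X₂ t = chiP S.X₁ t + chiP S.X₃ t := by
  haveI := isProper_over_proj (k := k) (n := n)
  have h := Groth.L03.Euler.euler_add (k := k) (shortExact_tw hS t) (isCoh_obj h₁ t)
    (isCoh_obj h₂ t) (isCoh_obj h₃ t)
  simp only [ShortComplex.map_X₁, ShortComplex.map_X₂, ShortComplex.map_X₃] at h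
  rw [chiP_def, chiP_def, chiP_def]
  exact h

theorem chiP_hyp {F : (CohB1.ProjSpace n k).Modules} (hF : Coh.IsCoh F)
    (ι : CohB1.tensorMod F (Twist.twistProjSpace n k (-1)) ⟶ F) [Mono ι] (t : ℤ) :
    chiP (cokernel ι) t = chiP F t - chiP F (t - 1) := by
  haveI := isProper_over_proj (k := k) (n := n)
  have h1 : Coh.IsCoh (hypSeq ι).X₁ := isCoh_tw hF (-1)
  have h := chiP_add (hypSeq_shortExact ι) h1 hF (CohKernel.isCoh_kernel_cokernel h1 hF ι).2 t
  obtain ⟨e⟩ := nonempty_hypTw_X₁ ι t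
  have e' : chiP (hypSeq ι).X₁ t = chiP F (t - 1) := by
    rw [chiP_def, chiP_eq]
    let e2 : (tensorRightF (O' n k t)).obj (hypSeq ι).X₁ ≅ tw' F (t - 1) := e
    exact Groth.L03.Euler.euler_iso e2
  rw [e'] at h
  change chiP F t = chiP F (t - 1) + chiP (cokernel ι) t at h
  omega

theorem regular_cokernel_hyp {E : (CohB1.ProjSpace n k).Modules} {m : ℤ} (h : Regular E m)
    (ι : CohB1.tensorMod E (Twist.twistProjSpace n k (-1)) ⟶ E) [Mono ι] : Regular (cokernel ι) m := by
  have h2 : Regular (hypSeq ι).X₂ m := h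
  have h1 : Regular (hypSeq ι).X₁ (m + 1) := regular_tw.2 (h.of_le (by omega))
  have h3 := Regular.of_middle_right (hypSeq_shortExact ι) h2 h1
  exact h3

/-- The ambient modules of the induction. -/
structure Amb (d : ℕ) (b : ℤ → ℤ) (E : (CohB1.ProjSpace n k).Modules) : Prop where
  coh : Coh.IsCoh E
  reg : Regular E 0
  h0 : ∀ t : ℕ, (h0t E (t : ℤ) : ℤ) ≤ b (t : ℤ)
  forms : ∃ W : Submodule k (Form n k), n + 1 ≤ Module.finrank k W + d ∧
    ∀ f ∈ W, ∀ x ∈ CohB1.support E, x ∉ Proj.basicOpen (CohB1.polyGrading n k) f.1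

/-- `M` bounds the regularity of submodules with Euler characteristics `f`. -/
def Good (d : ℕ) (b f : ℤ → ℤ) (M : ℤ) : Prop :=
  ∀ (k : Type u) [Field k] [Infinite k] (n : ℕ) (E F : (CohB1.ProjSpace n k).Modules) (i : F ⟶ E) [Mono i],
    Coh.IsCoh F → Amb d b E → (∀ r, chiP F r = f r) → Regular F M

theorem regular_of_isZero {F : (CohB1.ProjSpace n k).Modules} (h : IsZero F) (m : ℤ) : Regular F m :=
  fun _ _ => Groth.L03.Euler.subsingleton_HH_of_isZero ((tensorRightF (O' n k _)).map_isZero h) _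

theorem good_zero (b f : ℤ → ℤ) (M : ℤ) : Good.{u} 0 b f M := by
  intro k _ _ n E F i _ _ hE _
  obtain ⟨W, hW, hv⟩ := hE.forms
  haveI := finite_forms (k := k) (n := n)
  have htop : W = ⊤ := Submodule.eq_top_of_finrank_eq (le_antisymm (Submodule.finrank_le W)
    (by rw [finrank_forms]; simpa using hW))
  have hE0 : IsZero E := by
    rw [Groth.L21.Mod.isZero_iff_support_eq_empty, Set.eq_empty_iff_forall_notMem]
    intro x hx
    obtain ⟨j, hj⟩ := ProjSpace.exists_mem_basicOpen_X n k x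
    exact hv ⟨_, ProjSpace.X_mem n k j⟩ (htop ▸ Submodule.mem_top) x hx hj
  exact regular_of_isZero (IsZero.of_mono i hE0) M

theorem mono_cokernel_map {F E : (CohB1.ProjSpace n k).Modules} (σ : O' n k (-1) ⟶ Coh.structureModule _)
    (i : F ⟶ E) [Mono i] (hQ : Mono (mu σ (cokernel i))) :
    Mono (cokernel.map (mu σ F) (mu σ E) ((tensorRightF (O' n k (-1))).map i) i (mu_natural σ i).symm) := by
  rw [Groth.L21.Mod.mono_iff_stalk_injective]
  intro x
  show Function.Injective (sm x _)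
  let c := cokernel.map (mu σ F) (mu σ E) ((tensorRightF (O' n k (-1))).map i) i (mu_natural σ i).symm
  have hsur : ∀ {A B : (CohB1.ProjSpace n k).Modules} (g : A ⟶ B) [Epi g], Function.Surjective (sm x g) :=
    fun g _ => (Groth.L21.Mod.epi_iff_stalk_surjective g).1 inferInstance x
  have hex : ∀ {A B : (CohB1.ProjSpace n k).Modules} (g : A ⟶ B) (v : (Groth.L00.Stk.F _ x).obj B),
      sm x (cokernel.π g) v = 0 → ∃ a, sm x g a = v := fun g v hv =>
    (ShortComplex.ab_exact_iff _).1 ((Groth.L21.Mod.exact_iff_stalk _).1 (ShortComplex.exact_cokernel g) x) v hv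
  intro v w hvw
  rw [← sub_eq_zero]
  have h0 : sm x c (v - w) = 0 := by rw [sm_map_sub, sub_eq_zero]; exact hvw
  revert h0
  generalize v - w = z
  intro h0
  obtain ⟨a, rfl⟩ := hsur (cokernel.π (mu σ F)) z
  have h1 : sm x (cokernel.π (mu σ E)) (sm x i a) = 0 := by
    rw [← sm_comp, ← cokernel.π_desc (mu σ F) (i ≫ cokernel.π (mu σ E)), sm_comp]
    exact h0
  obtain ⟨e, he⟩ := hex (mu σ E) _ h1
  let T := tensorRightF (O' n k (-1))
  have h2 : sm x (mu σ (cokernel i)) (sm x (T.map (cokernel.π i)) e) = 0 := by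
    rw [← sm_comp, mu_natural, sm_comp, he, ← sm_comp, cokernel.condition, sm_zero]
  have h3 : sm x (T.map (cokernel.π i)) e = 0 :=
    (Groth.L21.Mod.mono_iff_stalk_injective (mu σ (cokernel i))).1 hQ x (h2.trans (sm_map_zero x _).symm)
  obtain ⟨θ, hθ, hθ0, hnat⟩ := exists_theta x (ProjTwist.isInvertible_twistProjSpace n k (-1))
  obtain ⟨e', rfl⟩ := (hθ E).2 e
  rw [hnat] at h3
  obtain ⟨a', rfl⟩ := hex i e' ((hθ _).1 (h3.trans (hθ0 _).symm))
  rw [← hnat, ← sm_comp, mu_natural, sm_comp] at he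
  have ha : sm x (mu σ F) (θ F a') = a := (Groth.L21.Mod.mono_iff_stalk_injective i).1 inferInstance x he
  rw [← ha, ← sm_comp, cokernel.condition, sm_zero]

theorem chiP_eq_sub {F : (CohB1.ProjSpace n k).Modules} {t : ℤ}
    (h : ∀ q, 2 ≤ q → Subsingleton (Coh.HH (CohB1.ProjSpace n k) (tw' F t) q)) :
    chiP F t = (h0t F t : ℤ) - (h1 F t : ℤ) := by
  haveI := isProper_over_proj (k := k) (n := n)
  rw [chiP_eq, h0t_eq, h1_def, Groth.L03.Euler.euler_eq_sum (N := 2) h, Finset.sum_range_succ,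
    Finset.sum_range_one]
  ring

theorem good_succ {d : ℕ} {b f : ℤ → ℤ} {M m c : ℤ} (hM : Good.{u} d b (fun t => f t - f (t - 1)) M)
    (hm : M ≤ m) (hm1 : 1 ≤ m) (hc0 : 0 ≤ c) (hc : b (m - 1) - f (m - 1) ≤ c) :
    Good.{u} (d + 1) b f (m + c) := by
  intro k _ _ n E F i _ hF hE hf
  haveI := hE.coh.1
  haveI := hF.1
  have hQc : Coh.IsCoh (cokernel i) := (CohKernel.isCoh_kernel_cokernel hF hE.coh i).2
  haveI := hQc.1
  haveI : AlgebraicGeometry.IsNoetherian (CohB1.ProjSpace n k) := inferInstance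
  rcases Set.eq_empty_or_nonempty (CohB1.support E) with hne | ⟨z, hz⟩
  · exact regular_of_isZero (IsZero.of_mono i ((Groth.L21.Mod.isZero_iff_support_eq_empty E).2 hne)) _
  obtain ⟨ℓ, hℓ⟩ := exists_form_avoiding (((Groth.L22.EnrSev.finite_setOf_isAssPoint hE.coh.2).union
    (Groth.L22.EnrSev.finite_setOf_isAssPoint hQc.2)).union
      ((Groth.L22.EnrSev.finite_setOf_isAssPoint hF.2).union (Set.finite_singleton z)))
  let σ := sigmaF ℓ
  haveI hmE : Mono (mu σ E) := mono_mu_sigmaF hE.coh ℓ fun x hx => hℓ x (Or.inl (Or.inl hx))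
  haveI hmQ : Mono (mu σ (cokernel i)) := mono_mu_sigmaF hQc ℓ fun x hx => hℓ x (Or.inl (Or.inr hx))
  haveI hmF : Mono (mu σ F) := mono_mu_sigmaF hF ℓ fun x hx => hℓ x (Or.inr (Or.inl hx))
  haveI := mono_cokernel_map σ i hmQ
  let ιE : CohB1.tensorMod E (Twist.twistProjSpace n k (-1)) ⟶ E := mu σ E
  let ιF : CohB1.tensorMod F (Twist.twistProjSpace n k (-1)) ⟶ F := mu σ F
  haveI : Mono ιE := hmE
  haveI : Mono ιF := hmF
  have hE' : Amb d b (cokernel ιE) := by
    refine ⟨(CohKernel.isCoh_kernel_cokernel (isCoh_tw hE.coh (-1)) hE.coh ιE).2,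
      regular_cokernel_hyp hE.reg ιE, fun t => ?_, ?_⟩
    · refine le_trans (Nat.cast_le.2 (h0t_cokernel_le hE.coh ιE (t : ℤ) ?_)) (hE.h0 t)
      obtain ⟨e⟩ := nonempty_hypTw_X₁ ιE (t : ℤ)
      exact subsingleton_iso e.symm _ (hE.reg.subsingleton le_rfl (by omega))
    · obtain ⟨W, hW, hv⟩ := hE.forms
      haveI := finite_forms (k := k) (n := n)
      refine ⟨W ⊔ Submodule.span k {ℓ}, ?_, fun g hg x hx => ?_⟩
      · have hlt : Module.finrank k W < Module.finrank k (W ⊔ Submodule.span k {ℓ} : Submodule k (Form n k)) := by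
          refine Submodule.finrank_lt_finrank_of_lt (lt_of_le_of_ne le_sup_left fun h => ?_)
          exact hv ℓ (h ▸ Submodule.mem_sup_right (Submodule.mem_span_singleton_self ℓ)) z hz
            (hℓ z (Or.inr (Or.inr rfl)))
        omega
      · have hsupp : x ∈ CohB1.support E ∧ x ∉ Proj.basicOpen (CohB1.polyGrading n k) ℓ.1 := by
          constructor
          · intro hs
            haveI : Subsingleton ((Groth.L21.Mod.stalkF _ x).obj E) := hs; exact hx ((Groth.L21.Mod.epi_iff_stalk_surjective (cokernel.π ιE)).1 inferInstance x).subsingleton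
          · intro hb
            refine hx (subsingleton_of_forall_eq 0 fun v => ?_)
            obtain ⟨e, he⟩ := (Groth.L21.Mod.epi_iff_stalk_surjective (cokernel.π ιE)).1 inferInstance x v
            obtain ⟨a, rfl⟩ := (bijective_mu x σ (bijective_sigmaF ℓ hb) E).2 e
            rw [← he]
            show sm x (cokernel.π ιE) (sm x ιE a) = 0
            rw [← sm_comp, cokernel.condition, sm_zero]
        have hle : W ⊔ Submodule.span k {ℓ} ≤ vanAt x :=
          sup_le (fun g hg => mem_vanAt.2 (hv g hg x hsupp.1))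
            ((Submodule.span_singleton_le_iff_mem _ _).2 (mem_vanAt.2 hsupp.2))
        exact mem_vanAt.1 (hle hg)
  have hG : Regular (cokernel ιF) M :=
    hM k n (cokernel ιE) (cokernel ιF) (cokernel.map (mu σ F) (mu σ E) _ i (mu_natural σ i).symm)
      (CohKernel.isCoh_kernel_cokernel (isCoh_tw hF (-1)) hF ιF).2 hE' fun r => by
        rw [chiP_hyp hF, hf, hf]
  have hGm := hG.of_le hm
  refine (regular_hyp ιF hF hGm).of_le ?_
  have hchi := chiP_eq_sub (F := F) (t := m - 1) fun q hq => subsingleton_ge_two ιF hF hGm hq (by omega)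
  rw [hf] at hchi
  obtain ⟨t, ht⟩ : ∃ t : ℕ, m - 1 = t := ⟨(m - 1).toNat, by omega⟩
  have h0E := hE.h0 t
  rw [← ht] at h0E
  have := h0t_le_of_mono hE.coh i (m - 1)
  omega

end Groth.L22.Reg
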